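import Mathlib.RingTheory.Derivation.Lie
import Mathlib.Algebra.BigOperators.Ring.Finset
import Mathlib.Data.Fintype.BigOperators
import Mathlib.Data.Fintype.Sum
import Mathlib.Algebra.Module.LinearMap.Basic
import Mathlib.Tactic.LinearCombination
import Mathlib.Tactic.Abel

/-!
# Absolute differential forms on the cone over a generic complete intersection

Abstract setting.  `Q` is the function field of the cone `Spec A`, `A = K[x]/(G_l)`; `R I m` are the homogeneous elements of
degree `m` of `A[1/x_i, i ∈ I]`; the coordinates `z` are the coefficients `c_e` of the equations and the variables `x_k`;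
`g l a = ∂G_l/∂z_a`.  Derivations of `Q` correspond to the vectors `v` with `∑ a, g l a * v a = 0`.
The hypotheses `Z1` (vanishing of `H^1(O(m))`) and `Soc` (socle of the top cohomology) imply that

* a family of 1-forms `η α` (on the charts) whose differences are regular comes from a global 1-form (`exists_global`);
* a global regular 1-form of degree zero is `∑ h_a dz_a` with global `h_a` (`global_form`);
* a global regular 2-form is `∑ h_ab dz_a dz_b` with global `h_ab` (`global_two_form`).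
-/

set_option autoImplicit false
universe u

open Finset

namespace Groth.Agent.Lefpen.H725.Core

/-- The abstract setting. -/
structure Setup (Q : Type u) [Field Q] (X C L : Type) [Fintype X] [DecidableEq X]
    [Fintype C] [DecidableEq C] [Fintype L] [DecidableEq L] where
  /-- homogeneous elements of degree `m` of `A[1/x_i, i ∈ I]` -/
  R : Finset X → ℤ → AddSubgroup Q
  mono : ∀ {I J : Finset X} (m : ℤ), I ⊆ J → R I m ≤ R J m
  mul_mem : ∀ {I : Finset X} {m m' : ℤ} {a b : Q}, a ∈ R I m → b ∈ R I m' → a * b ∈ R I (m + m')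
  one_mem : ∀ I : Finset X, (1 : Q) ∈ R I 0
  /-- degrees of the equations -/
  al : L → ℤ
  al_nonneg : ∀ l, 0 ≤ al l
  /-- coordinates -/
  z : C ⊕ X → Q
  /-- degrees of the coordinates -/
  dg : C ⊕ X → ℤ
  dg_inl : ∀ e, dg (Sum.inl e) = 0
  /-- partial derivatives of the equations -/
  g : L → C ⊕ X → Q
  g_mem : ∀ l a I, g l a ∈ R I (al l - dg a)
  /-- the equation in which a coefficient occurs -/
  cell : C → L
  g_cell : ∀ l e, l ≠ cell e → g l (Sum.inl e) = 0
  /-- the coefficient of the pure power -/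
  pr : L → X → C
  cell_pr : ∀ l α, cell (pr l α) = l
  /-- inverse of the pure power -/
  w : L → X → Q
  w_mem : ∀ l α, w l α ∈ R {α} (- al l)
  g_w : ∀ l α, g l (Sum.inl (pr l α)) * w l α = 1
  tangent : ∀ (D : Derivation ℤ Q Q) (l : L), ∑ a, g l a * D (z a) = 0
  lift : ∀ v : C ⊕ X → Q, (∀ l, ∑ a, g l a * v a = 0) → ∃ D : Derivation ℤ Q Q, ∀ a, D (z a) = v a
  ext : ∀ D : Derivation ℤ Q Q, (∀ a, D (z a) = 0) → D = 0
  der_mem : ∀ (D : Derivation ℤ Q Q) (I : Finset X) (m : ℤ), (∀ a, D (z a) ∈ R I (m + dg a)) →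
    ∀ (m' : ℤ) (f : Q), f ∈ R I m' → D f ∈ R I (m + m')
  Z1 : ∀ (m : ℤ) (s : X → X → Q), (∀ i j, s i j ∈ R {i, j} m) → (∀ i j k, s j k - s i k + s i j = 0) →
    ∃ t : X → Q, (∀ i, t i ∈ R {i} m) ∧ ∀ i j, s i j = t j - t i
  Soc : ∀ (l : L) (m : ℤ), m ≤ 0 → ∀ s : X → X → X → Q, (∀ i j k, s i j k ∈ R {i, j, k} (m - al l)) →
    (∀ i j k q, s j k q - s i k q + s i j q - s i j k = 0) →
    (∀ e, cell e = l → ∃ v : X → X → Q, (∀ i j, v i j ∈ R {i, j} m) ∧
      ∀ i j k, g l (Sum.inl e) * s i j k = v j k - v i k + v i j) →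
    ∃ r : X → X → Q, (∀ i j, r i j ∈ R {i, j} (m - al l)) ∧ ∀ i j k, s i j k = r j k - r i k + r i j

variable {Q : Type u} [Field Q] {X C L : Type} [Fintype X] [DecidableEq X]
    [Fintype C] [DecidableEq C] [Fintype L] [DecidableEq L] (S : Setup Q X C L)

include S

theorem sum_mem_R {κ : Type*} (s : Finset κ) (f : κ → Q) (I : Finset X) (m : ℤ) (h : ∀ i ∈ s, f i ∈ S.R I m) :
    ∑ i ∈ s, f i ∈ S.R I m := AddSubgroup.sum_mem _ h

theorem mul_mem' {I : Finset X} {m m' n : ℤ} {a b : Q} (ha : a ∈ S.R I m) (hb : b ∈ S.R I m') (h : n = m + m') :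
    a * b ∈ S.R I n := h ▸ S.mul_mem ha hb

theorem g_pr (l l' : L) (α : X) : S.g l' (Sum.inl (S.pr l α)) * S.w l α = if l' = l then 1 else 0 := by
  split_ifs with h
  · subst h; exact S.g_w _ _
  · rw [S.g_cell l' (S.pr l α) (by rwa [S.cell_pr]), zero_mul]

/-- The coordinates of `E α a`. -/
def vecE (α : X) (a b : C ⊕ X) : Q :=
  (if b = a then 1 else 0) - ∑ l, if b = Sum.inl (S.pr l α) then S.g l a * S.w l α else 0

theorem sum_pr (l' : L) (f : L → Q) (α : X) :
    ∑ b, S.g l' b * (∑ l, if b = Sum.inl (S.pr l α) then f l * S.w l α else 0) = f l' := by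
  simp only [Finset.mul_sum]
  rw [Finset.sum_comm]
  have : ∀ l, ∑ b, S.g l' b * (if b = Sum.inl (S.pr l α) then f l * S.w l α else 0) =
      f l * (if l' = l then 1 else 0) := by
    intro l
    rw [Finset.sum_eq_single (Sum.inl (S.pr l α))]
    · rw [if_pos rfl, ← g_pr S l l' α]; ring
    · intro b _ hb; rw [if_neg hb, mul_zero]
    · intro h; exact absurd (mem_univ _) h
  simp only [this]
  simp

theorem vecE_tangent (α : X) (a : C ⊕ X) (l' : L) : ∑ b, S.g l' b * vecE S α a b = 0 := by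
  unfold vecE
  simp only [mul_sub, Finset.sum_sub_distrib]
  rw [sum_pr S l' (fun l => S.g l a) α]
  simp

/-- The derivation dual to the coordinate `z a` on the chart `α`. -/
noncomputable def E (α : X) (a : C ⊕ X) : Derivation ℤ Q Q :=
  (S.lift (vecE S α a) (vecE_tangent S α a)).choose

theorem E_apply (α : X) (a b : C ⊕ X) : E S α a (S.z b) = vecE S α a b :=
  (S.lift (vecE S α a) (vecE_tangent S α a)).choose_spec b

omit S in
theorem sum_der_apply {κ : Type*} (s : Finset κ) (f : κ → Derivation ℤ Q Q) (x : Q) :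
    (∑ i ∈ s, f i) x = ∑ i ∈ s, f i x := by
  classical
  induction s using Finset.induction_on with
  | empty => simp
  | insert i s hi ih => rw [Finset.sum_insert hi, Finset.sum_insert hi, Derivation.add_apply, ih]

theorem ext' {D D' : Derivation ℤ Q Q} (h : ∀ a, D (S.z a) = D' (S.z a)) : D = D' := by
  rw [← sub_eq_zero]
  exact S.ext _ fun a => by rw [Derivation.sub_apply, h a, sub_self]

/-- Expansion of a derivation. -/
theorem expand (α : X) (D : Derivation ℤ Q Q) : D = ∑ a, D (S.z a) • E S α a := by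
  refine ext' S fun b => ?_
  rw [sum_der_apply]
  simp only [Derivation.smul_apply, smul_eq_mul, E_apply]
  unfold vecE
  simp only [mul_sub, Finset.sum_sub_distrib, mul_ite, mul_one, mul_zero]
  rw [Finset.sum_ite_eq, if_pos (mem_univ _)]
  simp only [Finset.mul_sum, mul_ite, mul_zero]
  rw [Finset.sum_comm]
  have : ∀ l, (∑ a, if b = Sum.inl (S.pr l α) then D (S.z a) * (S.g l a * S.w l α) else 0) = 0 := by
    intro l
    by_cases h : b = Sum.inl (S.pr l α)
    · simp only [if_pos h]
      have := S.tangent D l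
      calc _ = (∑ a, S.g l a * D (S.z a)) * S.w l α := by
            rw [Finset.sum_mul]; exact Finset.sum_congr rfl fun a _ => by ring
        _ = 0 := by rw [this, zero_mul]
    · simp only [if_neg h]; simp
  simp only [this]
  simp

theorem E_mem (α : X) (a b : C ⊕ X) : E S α a (S.z b) ∈ S.R {α} (- S.dg a + S.dg b) := by
  rw [E_apply]
  unfold vecE
  refine AddSubgroup.sub_mem _ ?_ (AddSubgroup.sum_mem _ fun l _ => ?_)
  · split_ifs with h
    · subst h
      rw [neg_add_cancel]; exact S.one_mem _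
    · exact AddSubgroup.zero_mem _
  · split_ifs with h
    · subst h
      rw [S.dg_inl]
      exact mul_mem' S (S.g_mem l a _) (S.w_mem l α) (by ring)
    · exact AddSubgroup.zero_mem _

/-- The coordinates of `δ`. -/
def vecδ (l : L) (α β : X) (b : C ⊕ X) : Q :=
  (if b = Sum.inl (S.pr l α) then S.w l α else 0) - (if b = Sum.inl (S.pr l β) then S.w l β else 0)

theorem vecδ_tangent (l : L) (α β : X) (l' : L) : ∑ b, S.g l' b * vecδ S l α β b = 0 := by
  unfold vecδ
  simp only [mul_sub, Finset.sum_sub_distrib, mul_ite, mul_zero]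
  rw [Finset.sum_ite_eq', Finset.sum_ite_eq', if_pos (mem_univ _), if_pos (mem_univ _), g_pr, g_pr, sub_self]

/-- The vertical derivation `∂/∂c_{l,α} / x_α^a - ∂/∂c_{l,β} / x_β^a`. -/
noncomputable def δ (l : L) (α β : X) : Derivation ℤ Q Q :=
  (S.lift (vecδ S l α β) (vecδ_tangent S l α β)).choose

theorem δ_apply (l : L) (α β : X) (b : C ⊕ X) : δ S l α β (S.z b) = vecδ S l α β b :=
  (S.lift (vecδ S l α β) (vecδ_tangent S l α β)).choose_spec b

theorem δ_mem (l : L) (α β : X) (b : C ⊕ X) : δ S l α β (S.z b) ∈ S.R {α, β} (- S.al l + S.dg b) := by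
  rw [δ_apply]
  unfold vecδ
  refine AddSubgroup.sub_mem _ ?_ ?_
  · split_ifs with h
    · subst h
      rw [S.dg_inl, add_zero]; exact S.mono _ (by simp) (S.w_mem l α)
    · exact AddSubgroup.zero_mem _
  · split_ifs with h
    · subst h
      rw [S.dg_inl, add_zero]; exact S.mono _ (by simp) (S.w_mem l β)
    · exact AddSubgroup.zero_mem _

theorem δ_add (l : L) (α β γ : X) : δ S l α β + δ S l β γ = δ S l α γ := by
  refine ext' S fun b => ?_
  rw [Derivation.add_apply, δ_apply, δ_apply, δ_apply]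
  unfold vecδ
  ring

theorem E_change (α β : X) (a : C ⊕ X) : E S β a = E S α a + ∑ l, S.g l a • δ S l α β := by
  refine ext' S fun b => ?_
  rw [Derivation.add_apply, sum_der_apply, E_apply, E_apply]
  simp only [Derivation.smul_apply, smul_eq_mul, δ_apply]
  unfold vecE vecδ
  simp only [mul_sub, Finset.sum_sub_distrib, mul_ite, mul_zero]
  ring

/-- A form with regular values on the `E α a` is regular on all regular derivations. -/
theorem form_mem (θ : Derivation ℤ Q Q →ₗ[Q] Q) (α : X) (J : Finset X) (m₀ : ℤ)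
    (hθ : ∀ a, θ (E S α a) ∈ S.R J (m₀ - S.dg a)) (m : ℤ) (D : Derivation ℤ Q Q)
    (hD : ∀ a, D (S.z a) ∈ S.R J (m + S.dg a)) : θ D ∈ S.R J (m₀ + m) := by
  rw [expand S α D, map_sum]
  refine AddSubgroup.sum_mem _ fun a _ => ?_
  rw [map_smul, smul_eq_mul]
  exact mul_mem' S (hD a) (hθ a) (by ring)

theorem sum_tangent (D : Derivation ℤ Q Q) (ρ : L → Q) :
    ∑ a, D (S.z a) * ∑ l, S.g l a * ρ l = 0 := by
  simp only [Finset.mul_sum]
  rw [Finset.sum_comm]
  refine Finset.sum_eq_zero fun l _ => ?_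
  have := S.tangent D l
  calc _ = (∑ a, S.g l a * D (S.z a)) * ρ l := by
        rw [Finset.sum_mul]; exact Finset.sum_congr rfl fun a _ => by ring
    _ = 0 := by rw [this, zero_mul]

/-- The linear form `D ↦ ∑ a, D (z a) * t a`. -/
def coordForm (t : C ⊕ X → Q) : Derivation ℤ Q Q →ₗ[Q] Q where
  toFun D := ∑ a, D (S.z a) * t a
  map_add' D D' := by
    simp only [Derivation.add_apply, add_mul, Finset.sum_add_distrib]
  map_smul' c D := by
    simp only [Derivation.smul_apply, smul_eq_mul, RingHom.id_apply, Finset.mul_sum, mul_assoc]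

theorem coordForm_apply (t : C ⊕ X → Q) (D : Derivation ℤ Q Q) : coordForm S t D = ∑ a, D (S.z a) * t a := rfl

/-- **Vanishing of `H^1(U, Ω)` in degree zero.** -/
theorem exists_global [Nonempty X] (η : X → (Derivation ℤ Q Q →ₗ[Q] Q))
    (hη : ∀ α β a, (η β - η α) (E S α a) ∈ S.R {α, β} (- S.dg a)) :
    ∃ (η' : Derivation ℤ Q Q →ₗ[Q] Q) (t : X → C ⊕ X → Q), (∀ α a, t α a ∈ S.R {α} (- S.dg a)) ∧
      ∀ α D, η' D = η α D - ∑ a, D (S.z a) * t α a := by
  -- the cochains
  have hdiff : ∀ (α β : X) (J : Finset X), {α, β} ⊆ J → ∀ (m : ℤ) (D : Derivation ℤ Q Q),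
      (∀ a, D (S.z a) ∈ S.R J (m + S.dg a)) → (η β - η α) D ∈ S.R J m := by
    intro α β J hJ m D hD
    have := form_mem S (η β - η α) α J 0
      (fun a => by rw [zero_sub]; exact S.mono _ hJ (hη α β a)) m D hD
    rwa [zero_add] at this
  have hω : ∀ α β a, (η β - η α) (E S α a) ∈ S.R {α, β} (- S.dg a) := hη
  set ξ : L → X → X → X → Q := fun l α β γ => (η γ - η β) (δ S l α β) with hξ
  have hξmem : ∀ l α β γ, ξ l α β γ ∈ S.R {α, β, γ} (0 - S.al l) := by
    intro l α β γ
    rw [zero_sub]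
    exact hdiff β γ {α, β, γ} (by intro x; simp; tauto) (- S.al l) _
      (fun a => S.mono _ (by intro x; simp; tauto) (δ_mem S l α β a))
  have hξcoc : ∀ l α β γ ε, ξ l β γ ε - ξ l α γ ε + ξ l α β ε - ξ l α β γ = 0 := by
    intro l α β γ ε
    have h1 : δ S l α γ = δ S l α β + δ S l β γ := (δ_add S l α β γ).symm
    simp only [hξ, h1, LinearMap.sub_apply, map_add]
    ring
  have hdω : ∀ a α β γ, (η γ - η β) (E S β a) - (η γ - η α) (E S α a) + (η β - η α) (E S α a) =
      ∑ l, S.g l a * ξ l α β γ := by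
    intro a α β γ
    have h1 := E_change S α β a
    have h2 : ∑ l, S.g l a * ξ l α β γ = (η γ - η β) (∑ l, S.g l a • δ S l α β) := by
      rw [map_sum]
      exact Finset.sum_congr rfl fun l _ => by rw [map_smul, smul_eq_mul]
    rw [h2, h1, map_add]
    simp only [LinearMap.sub_apply]
    ring
  have hsoc : ∀ l, ∃ r : X → X → Q, (∀ i j, r i j ∈ S.R {i, j} (0 - S.al l)) ∧
      ∀ i j k, ξ l i j k = r j k - r i k + r i j := by
    intro l
    refine S.Soc l 0 le_rfl (ξ l) (fun i j k => hξmem l i j k) (fun i j k q => hξcoc l i j k q) fun e he => ?_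
    refine ⟨fun i j => (η j - η i) (E S i (Sum.inl e)), fun i j => ?_, fun i j k => ?_⟩
    · have := hω i j (Sum.inl e)
      rwa [S.dg_inl, neg_zero] at this
    · rw [hdω (Sum.inl e) i j k, Finset.sum_eq_single l]
      · intro l' _ hl'
        rw [S.g_cell l' e (by rw [he]; exact hl'), zero_mul]
      · intro h; exact absurd (mem_univ _) h
  choose ρ hρmem hρ using hsoc
  have hZ : ∀ a, ∃ t : X → Q, (∀ i, t i ∈ S.R {i} (- S.dg a)) ∧
      ∀ i j, (η j - η i) (E S i a) - ∑ l, S.g l a * ρ l i j = t j - t i := by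
    intro a
    refine S.Z1 (- S.dg a) (fun i j => (η j - η i) (E S i a) - ∑ l, S.g l a * ρ l i j) (fun i j => ?_)
      (fun i j k => ?_)
    · refine AddSubgroup.sub_mem _ (hω i j a) (AddSubgroup.sum_mem _ fun l _ => ?_)
      exact mul_mem' S (S.g_mem l a _) (hρmem l i j) (by ring)
    · have h1 := hdω a i j k
      have h2 : ∑ l, S.g l a * ξ l i j k = ∑ l, S.g l a * ρ l j k - ∑ l, S.g l a * ρ l i k +
          ∑ l, S.g l a * ρ l i j := by
        rw [← Finset.sum_sub_distrib, ← Finset.sum_add_distrib]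
        exact Finset.sum_congr rfl fun l _ => by rw [hρ l i j k]; ring
      rw [h2] at h1
      linear_combination h1
  choose t htmem ht using hZ
  obtain ⟨α₀⟩ := ‹Nonempty X›
  refine ⟨η α₀ - coordForm S (fun a => t a α₀), fun α a => t a α, fun α a => htmem a α, fun α D => ?_⟩
  rw [LinearMap.sub_apply, coordForm_apply]
  have h1 : (η α - η α₀) D = ∑ a, D (S.z a) * (η α - η α₀) (E S α₀ a) := by
    conv_lhs => rw [expand S α₀ D]
    rw [map_sum]
    exact Finset.sum_congr rfl fun a _ => by rw [map_smul, smul_eq_mul]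
  have h2 : ∑ a, D (S.z a) * (η α - η α₀) (E S α₀ a) =
      ∑ a, D (S.z a) * t a α - ∑ a, D (S.z a) * t a α₀ + ∑ a, D (S.z a) * ∑ l, S.g l a * ρ l α₀ α := by
    rw [← Finset.sum_sub_distrib, ← Finset.sum_add_distrib]
    refine Finset.sum_congr rfl fun a _ => ?_
    have := ht a α₀ α
    linear_combination D (S.z a) * this
  rw [h2, sum_tangent S D (fun l => ρ l α₀ α), add_zero, LinearMap.sub_apply] at h1
  linear_combination -h1

/-- **Global sections of `Ω`.** -/
theorem global_form [Nonempty X] (θ : Derivation ℤ Q Q →ₗ[Q] Q) (m₀ : ℤ)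
    (hθ : ∀ α a, θ (E S α a) ∈ S.R {α} (m₀ - S.dg a)) :
    ∃ h : C ⊕ X → Q, (∀ α a, h a ∈ S.R {α} (m₀ - S.dg a)) ∧ ∀ D, θ D = ∑ a, D (S.z a) * h a := by
  have hr : ∀ l, ∃ u : X → Q, (∀ i, u i ∈ S.R {i} (m₀ - S.al l)) ∧
      ∀ i j, θ (δ S l i j) = u j - u i := by
    intro l
    refine S.Z1 (m₀ - S.al l) (fun i j => θ (δ S l i j)) (fun i j => ?_) (fun i j k => ?_)
    · exact form_mem S θ i {i, j} m₀ (fun a => S.mono _ (by simp) (hθ i a)) (- S.al l) _
        (fun a => δ_mem S l i j a)
    · rw [← δ_add S l i j k, map_add]; ring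
  choose u humem hu using hr
  obtain ⟨α₀⟩ := ‹Nonempty X›
  have hind : ∀ α a, θ (E S α a) - ∑ l, S.g l a * u l α = θ (E S α₀ a) - ∑ l, S.g l a * u l α₀ := by
    intro α a
    have h1 := congrArg θ (E_change S α₀ α a)
    rw [map_add, map_sum] at h1
    have h2 : ∑ l, θ (S.g l a • δ S l α₀ α) = ∑ l, S.g l a * u l α - ∑ l, S.g l a * u l α₀ := by
      rw [← Finset.sum_sub_distrib]
      exact Finset.sum_congr rfl fun l _ => by rw [map_smul, smul_eq_mul, hu l]; ring
    rw [h2] at h1
    linear_combination h1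
  refine ⟨fun a => θ (E S α₀ a) - ∑ l, S.g l a * u l α₀, fun α a => ?_, fun D => ?_⟩
  · show θ (E S α₀ a) - ∑ l, S.g l a * u l α₀ ∈ _
    rw [← hind α a]
    refine AddSubgroup.sub_mem _ (hθ α a) (AddSubgroup.sum_mem _ fun l _ => ?_)
    exact mul_mem' S (S.g_mem l a _) (humem l α) (by ring)
  · have h1 : θ D = ∑ a, D (S.z a) * θ (E S α₀ a) := by
      conv_lhs => rw [expand S α₀ D]
      rw [map_sum]
      exact Finset.sum_congr rfl fun a _ => by rw [map_smul, smul_eq_mul]
    have h2 := sum_tangent S D (fun l => u l α₀)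
    simp only [mul_sub, Finset.sum_sub_distrib]
    rw [h2, sub_zero, h1]

/-- **Global sections of `Ω²`.** -/
theorem global_two_form [Nonempty X] (B : Derivation ℤ Q Q →ₗ[Q] Derivation ℤ Q Q →ₗ[Q] Q)
    (hanti : ∀ D D', B D D' = - B D' D)
    (hB : ∀ α a b, B (E S α a) (E S α b) ∈ S.R {α} (- S.dg a - S.dg b)) :
    ∃ h : C ⊕ X → C ⊕ X → Q, (∀ α a b, h a b ∈ S.R {α} (- S.dg a - S.dg b)) ∧
      ∀ D D', B D D' = ∑ a, ∑ b, D (S.z a) * (D' (S.z b) * h a b) := by
  -- regularity of the values of `B`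
  have hreg : ∀ (α : X) (J : Finset X), α ∈ J → ∀ (m m' : ℤ) (D D' : Derivation ℤ Q Q),
      (∀ a, D (S.z a) ∈ S.R J (m + S.dg a)) → (∀ a, D' (S.z a) ∈ S.R J (m' + S.dg a)) →
      B D D' ∈ S.R J (m + m') := by
    intro α J hJ m m' D D' hD hD'
    have hsub : ({α} : Finset X) ⊆ J := by simpa using hJ
    refine form_mem S (B D) α J m (fun b => ?_) m' D' hD'
    have h1 : B.flip (E S α b) D ∈ S.R J (- S.dg b + m) := by
      refine form_mem S (B.flip (E S α b)) α J (- S.dg b) (fun a => ?_) m D hD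
      rw [LinearMap.flip_apply]
      have := S.mono _ hsub (hB α a b)
      rwa [show - S.dg a - S.dg b = - S.dg b - S.dg a by ring] at this
    rw [LinearMap.flip_apply] at h1
    rwa [show - S.dg b + m = m - S.dg b by ring] at h1
  have hE : ∀ (α : X) (J : Finset X), α ∈ J → ∀ a b, E S α a (S.z b) ∈ S.R J (- S.dg a + S.dg b) :=
    fun α J hJ a b => S.mono _ (by simpa using hJ) (E_mem S α a b)
  have hδ : ∀ (α β : X) (J : Finset X), α ∈ J → β ∈ J → ∀ l b, δ S l α β (S.z b) ∈ S.R J (- S.al l + S.dg b) :=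
    fun α β J hα hβ l b => S.mono _ (by intro x; simp; rintro (rfl | rfl) <;> assumption) (δ_mem S l α β b)
  set τ : L → (C ⊕ X) → X → X → Q := fun l b α β => B (δ S l α β) (E S α b) with hτ
  have hτmem : ∀ l b α β, τ l b α β ∈ S.R {α, β} (- S.al l - S.dg b) := fun l b α β => by
    have := hreg α {α, β} (by simp) (- S.al l) (- S.dg b) _ _ (fun a => hδ α β _ (by simp) (by simp) l a)
      (fun a => hE α _ (by simp) b a)
    rwa [← sub_eq_add_neg] at this
  set ζ : L → L → X → X → X → Q := fun l l' α β γ => B (δ S l β γ) (δ S l' α β) with hζ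
  have hζmem : ∀ l l' α β γ, ζ l l' α β γ ∈ S.R {α, β, γ} (- S.al l - S.al l') := fun l l' α β γ => by
    have := hreg α {α, β, γ} (by simp) (- S.al l) (- S.al l') _ _
      (fun a => hδ β γ _ (by simp) (by simp) l a) (fun a => hδ α β _ (by simp) (by simp) l' a)
    rwa [← sub_eq_add_neg] at this
  have hζcoc : ∀ l l' α β γ ε, ζ l l' β γ ε - ζ l l' α γ ε + ζ l l' α β ε - ζ l l' α β γ = 0 := by
    intro l l' α β γ ε
    have h1 : δ S l' α γ = δ S l' α β + δ S l' β γ := (δ_add S l' α β γ).symm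
    have h2 : δ S l β ε = δ S l β γ + δ S l γ ε := (δ_add S l β γ ε).symm
    simp only [hζ, h1, h2, map_add, LinearMap.add_apply]
    ring
  have hdτ : ∀ l b α β γ, τ l b β γ - τ l b α γ + τ l b α β = ∑ l', S.g l' b * ζ l l' α β γ := by
    intro l b α β γ
    have h1 : δ S l α γ = δ S l α β + δ S l β γ := (δ_add S l α β γ).symm
    have h2 : ∑ l', S.g l' b * ζ l l' α β γ = B (δ S l β γ) (∑ l', S.g l' b • δ S l' α β) := by
      rw [map_sum]
      exact Finset.sum_congr rfl fun l' _ => by rw [map_smul, smul_eq_mul]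
    rw [h2]
    simp only [hτ, h1, E_change S α β b, map_add, LinearMap.add_apply]
    ring
  have hsoc : ∀ l l', ∃ r : X → X → Q, (∀ i j, r i j ∈ S.R {i, j} (- S.al l - S.al l')) ∧
      ∀ i j k, ζ l l' i j k = r j k - r i k + r i j := by
    intro l l'
    refine S.Soc l' (- S.al l) (by have := S.al_nonneg l; omega) (ζ l l') (fun i j k => hζmem l l' i j k)
      (fun i j k q => hζcoc l l' i j k q) fun e he => ?_
    refine ⟨τ l (Sum.inl e), fun i j => ?_, fun i j k => ?_⟩
    · have := hτmem l (Sum.inl e) i j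
      rwa [S.dg_inl, sub_zero] at this
    · rw [hdτ l (Sum.inl e) i j k, Finset.sum_eq_single l']
      · intro l'' _ hl''
        rw [S.g_cell l'' e (by rw [he]; exact hl''), zero_mul]
      · intro h; exact absurd (mem_univ _) h
  choose ρ hρmem hρ using hsoc
  have hZ : ∀ l b, ∃ t : X → Q, (∀ i, t i ∈ S.R {i} (- S.al l - S.dg b)) ∧
      ∀ i j, τ l b i j - ∑ l', S.g l' b * ρ l l' i j = t j - t i := by
    intro l b
    refine S.Z1 (- S.al l - S.dg b) (fun i j => τ l b i j - ∑ l', S.g l' b * ρ l l' i j) (fun i j => ?_)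
      (fun i j k => ?_)
    · refine AddSubgroup.sub_mem _ (hτmem l b i j) (AddSubgroup.sum_mem _ fun l' _ => ?_)
      exact mul_mem' S (S.g_mem l' b _) (hρmem l l' i j) (by ring)
    · have h1 := hdτ l b i j k
      have h2 : ∑ l', S.g l' b * ζ l l' i j k = ∑ l', S.g l' b * ρ l l' j k - ∑ l', S.g l' b * ρ l l' i k +
          ∑ l', S.g l' b * ρ l l' i j := by
        rw [← Finset.sum_sub_distrib, ← Finset.sum_add_distrib]
        exact Finset.sum_congr rfl fun l' _ => by rw [hρ l l' i j k]; ring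
      rw [h2] at h1
      linear_combination h1
  choose t htmem ht using hZ
  have hK : ∀ l l', ∃ σ : X → Q, (∀ i, σ i ∈ S.R {i} (- S.al l - S.al l')) ∧
      ∀ i j, ρ l l' i j - ρ l' l i j + B (δ S l i j) (δ S l' i j) = σ j - σ i := by
    intro l l'
    refine S.Z1 (- S.al l - S.al l') (fun i j => ρ l l' i j - ρ l' l i j + B (δ S l i j) (δ S l' i j))
      (fun i j => ?_) (fun i j k => ?_)
    · refine AddSubgroup.add_mem _ (AddSubgroup.sub_mem _ (hρmem l l' i j) ?_) ?_
      · have := hρmem l' l i j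
        rwa [show - S.al l' - S.al l = - S.al l - S.al l' by ring] at this
      · have := hreg i {i, j} (by simp) (- S.al l) (- S.al l') _ _
          (fun a => hδ i j _ (by simp) (by simp) l a) (fun a => hδ i j _ (by simp) (by simp) l' a)
        rwa [← sub_eq_add_neg] at this
    · have h1 := hρ l l' i j k
      have h2 := hρ l' l i j k
      have h3 : δ S l i k = δ S l i j + δ S l j k := (δ_add S l i j k).symm
      have h4 : δ S l' i k = δ S l' i j + δ S l' j k := (δ_add S l' i j k).symm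
      have h5 : ζ l l' i j k = B (δ S l j k) (δ S l' i j) := rfl
      have h6 : ζ l' l i j k = - B (δ S l i j) (δ S l' j k) := hanti _ _
      have h7 : B (δ S l i k) (δ S l' i k) = B (δ S l i j) (δ S l' i j) + B (δ S l i j) (δ S l' j k) +
          (B (δ S l j k) (δ S l' i j) + B (δ S l j k) (δ S l' j k)) := by
        rw [h3, h4]
        simp only [map_add, LinearMap.add_apply]
        ring
      rw [h5] at h1
      rw [h6] at h2
      linear_combination h2 - h1 - h7
  choose σ hσmem hσ using hK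
  obtain ⟨α₀⟩ := ‹Nonempty X›
  set h : X → C ⊕ X → C ⊕ X → Q := fun α a b => B (E S α a) (E S α b) - ∑ l, S.g l a * t l b α +
    ∑ l, S.g l b * t l a α - ∑ l, ∑ l', S.g l a * (S.g l' b * σ l l' α) with hh
  have hhmem : ∀ α a b, h α a b ∈ S.R {α} (- S.dg a - S.dg b) := by
    intro α a b
    refine AddSubgroup.sub_mem _ (AddSubgroup.add_mem _ (AddSubgroup.sub_mem _ (hB α a b) ?_) ?_) ?_
    · exact AddSubgroup.sum_mem _ fun l _ => mul_mem' S (S.g_mem l a _) (htmem l b α) (by ring)
    · exact AddSubgroup.sum_mem _ fun l _ => mul_mem' S (S.g_mem l b _) (htmem l a α) (by ring)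
    · exact AddSubgroup.sum_mem _ fun l _ => AddSubgroup.sum_mem _ fun l' _ =>
        mul_mem' S (S.g_mem l a _) (mul_mem' S (S.g_mem l' b _) (hσmem l l' α) rfl) (by ring)
  have hind : ∀ α β a b, h α a b = h β a b := by
    intro α β a b
    have e1 : B (E S β a) (E S β b) = B (E S α a) (E S α b) + ∑ l, S.g l a * τ l b α β -
        ∑ l, S.g l b * τ l a α β + ∑ l, ∑ l', S.g l a * (S.g l' b * B (δ S l α β) (δ S l' α β)) := by
      rw [E_change S α β a, E_change S α β b]
      have f1 : B (∑ l, S.g l a • δ S l α β) (E S α b) = ∑ l, S.g l a * τ l b α β := by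
        rw [map_sum, LinearMap.sum_apply]
        exact Finset.sum_congr rfl fun l _ => by rw [map_smul, LinearMap.smul_apply, smul_eq_mul]
      have f2 : B (E S α a) (∑ l, S.g l b • δ S l α β) = - ∑ l, S.g l b * τ l a α β := by
        rw [map_sum, ← Finset.sum_neg_distrib]
        exact Finset.sum_congr rfl fun l _ => by
          rw [map_smul, smul_eq_mul, hanti (E S α a)]; simp only [hτ]; ring
      have f3 : B (∑ l, S.g l a • δ S l α β) (∑ l, S.g l b • δ S l α β) =
          ∑ l, ∑ l', S.g l a * (S.g l' b * B (δ S l α β) (δ S l' α β)) := by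
        rw [map_sum B, LinearMap.sum_apply]
        refine Finset.sum_congr rfl fun l _ => ?_
        rw [map_smul, LinearMap.smul_apply, map_sum, smul_eq_mul, Finset.mul_sum]
        exact Finset.sum_congr rfl fun l' _ => by rw [map_smul, smul_eq_mul]
      rw [map_add B, LinearMap.add_apply, map_add, map_add, f1, f2, f3]
      ring
    have e2 : ∀ a b, ∑ l, S.g l a * τ l b α β = ∑ l, S.g l a * t l b β - ∑ l, S.g l a * t l b α +
        ∑ l, ∑ l', S.g l a * (S.g l' b * ρ l l' α β) := by
      intro a b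
      rw [← Finset.sum_sub_distrib, ← Finset.sum_add_distrib]
      refine Finset.sum_congr rfl fun l _ => ?_
      rw [← Finset.mul_sum]
      have := ht l b α β
      linear_combination S.g l a * this
    have e3 : ∑ l, ∑ l', S.g l b * (S.g l' a * ρ l l' α β) = ∑ l, ∑ l', S.g l a * (S.g l' b * ρ l' l α β) := by
      rw [Finset.sum_comm]
      exact Finset.sum_congr rfl fun l _ => Finset.sum_congr rfl fun l' _ => by ring
    have e4 : ∑ l, ∑ l', S.g l a * (S.g l' b * ρ l l' α β) - ∑ l, ∑ l', S.g l a * (S.g l' b * ρ l' l α β) +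
        ∑ l, ∑ l', S.g l a * (S.g l' b * B (δ S l α β) (δ S l' α β)) =
        ∑ l, ∑ l', S.g l a * (S.g l' b * σ l l' β) - ∑ l, ∑ l', S.g l a * (S.g l' b * σ l l' α) := by
      simp only [← Finset.sum_sub_distrib, ← Finset.sum_add_distrib]
      refine Finset.sum_congr rfl fun l _ => Finset.sum_congr rfl fun l' _ => ?_
      have := hσ l l' α β
      linear_combination S.g l a * S.g l' b * this
    have e5 := e2 a b
    have e6 := e2 b a
    rw [e3] at e6
    simp only [hh]
    rw [e1, e5, e6]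
    linear_combination -e4
  refine ⟨h α₀, fun α a b => by rw [hind α₀ α]; exact hhmem α a b, fun D D' => ?_⟩
  have k1 : B D D' = ∑ a, ∑ b, D (S.z a) * (D' (S.z b) * B (E S α₀ a) (E S α₀ b)) := by
    conv_lhs => rw [expand S α₀ D, expand S α₀ D']
    rw [map_sum B, LinearMap.sum_apply]
    refine Finset.sum_congr rfl fun a _ => ?_
    rw [map_smul, LinearMap.smul_apply, map_sum, smul_eq_mul, Finset.mul_sum]
    exact Finset.sum_congr rfl fun b _ => by rw [map_smul, smul_eq_mul]
  have k2 : ∀ (t' : L → C ⊕ X → Q), ∑ a, ∑ b, D (S.z a) * (D' (S.z b) * ∑ l, S.g l a * t' l b) = 0 := by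
    intro t'
    rw [Finset.sum_comm]
    refine Finset.sum_eq_zero fun b _ => ?_
    have := sum_tangent S D (fun l => t' l b)
    calc _ = (∑ a, D (S.z a) * ∑ l, S.g l a * t' l b) * D' (S.z b) := by
          rw [Finset.sum_mul]; exact Finset.sum_congr rfl fun a _ => by ring
      _ = 0 := by rw [this, zero_mul]
  have k3 : ∀ (t' : L → C ⊕ X → Q), ∑ a, ∑ b, D (S.z a) * (D' (S.z b) * ∑ l, S.g l b * t' l a) = 0 := by
    intro t'
    refine Finset.sum_eq_zero fun a _ => ?_
    rw [← Finset.mul_sum, sum_tangent S D' (fun l => t' l a), mul_zero]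
  have k4 : ∑ a, ∑ b, D (S.z a) * (D' (S.z b) * ∑ l, ∑ l', S.g l a * (S.g l' b * σ l l' α₀)) = 0 := by
    have := k2 fun l b => ∑ l', S.g l' b * σ l l' α₀
    simpa only [Finset.mul_sum] using this
  have k5 : ∑ a, ∑ b, D (S.z a) * (D' (S.z b) * h α₀ a b) =
      ∑ a, ∑ b, D (S.z a) * (D' (S.z b) * B (E S α₀ a) (E S α₀ b)) -
      ∑ a, ∑ b, D (S.z a) * (D' (S.z b) * ∑ l, S.g l a * t l b α₀) +
      ∑ a, ∑ b, D (S.z a) * (D' (S.z b) * ∑ l, S.g l b * t l a α₀) -
      ∑ a, ∑ b, D (S.z a) * (D' (S.z b) * ∑ l, ∑ l', S.g l a * (S.g l' b * σ l l' α₀)) := by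
    simp only [← Finset.sum_sub_distrib, ← Finset.sum_add_distrib]
    refine Finset.sum_congr rfl fun a _ => Finset.sum_congr rfl fun b _ => ?_
    simp only [hh]
    ring
  rw [k5, k2 (fun l b => t l b α₀), k3 (fun l a => t l a α₀), k4, k1]
  ring

end Groth.Agent.Lefpen.H725.Core
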