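import Mathlib.RingTheory.Derivation.Lie
import Mathlib.Algebra.CharP.Lemmas
import Mathlib.FieldTheory.Separable

/-!
# Frames of derivations on a field of characteristic p (p-bases)

`Frame Q ι`: elements `z i` and derivations `D i` of the field `Q` with `D i (z j) = δ_ij`, such that every
derivation killing all `z i` vanishes (so `z` is a p-basis when `Q` has characteristic `p`).
-/

set_option autoImplicit false

namespace Groth.Agent.Lefpen.H725.Frame

/-- Elements `z i` and dual derivations `D i` of the field `Q` such that a derivation killing all the
`z i` vanishes. -/
structure Frame (Q : Type*) [Field Q] (ι : Type*) [DecidableEq ι] where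
  /-- the coordinates -/
  z : ι → Q
  /-- the dual derivations -/
  D : ι → Derivation ℤ Q Q
  dual : ∀ i j, D i (z j) = if i = j then 1 else 0
  sep : ∀ E : Derivation ℤ Q Q, (∀ i, E (z i) = 0) → E = 0

end Groth.Agent.Lefpen.H725.Frame
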