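import Groth.Agent.Lefpen.H725.Core
import Groth.Agent.Lefpen.H725.Frame

/-!
# The arithmetic part of the abstract setting

`AData S K p` adds to a `Core.Setup` the field of constants `K` with a frame given by the coefficients, commuting lifts of
the derivations of `K`, the values of `H^0(O(m))`, `m ≤ 0`, normality and the Euler derivation.
-/

set_option autoImplicit false
universe u

open Finset

namespace Groth.Agent.Lefpen.H725.Arith

open Groth.Agent.Lefpen.H725.Core Groth.Agent.Lefpen.H725.Frame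

variable {Q : Type u} [Field Q] {X C L : Type} [Fintype X] [DecidableEq X]
    [Fintype C] [DecidableEq C] [Fintype L] [DecidableEq L]

/-- The arithmetic part of the abstract setting. -/
structure AData (S : Setup Q X C L) (K : Type u) [Field K] (p : ℕ) where
  /-- the inclusion of the constants -/
  ι : K →+* Q
  /-- the coefficients form a frame of `K` -/
  F : Frame K C
  F_z : ∀ e, ι (F.z e) = S.z (Sum.inl e)
  ι_mem : ∀ (c : K) (I : Finset X), ι c ∈ S.R I 0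
  der_ι : ∀ (D : Derivation ℤ Q Q) (c : K), D (ι c) = ∑ e, D (S.z (Sum.inl e)) * ι (F.D e c)
  /-- commuting lifts of the derivations of `K` -/
  T : C → Derivation ℤ Q Q
  T_z : ∀ e e', T e (S.z (Sum.inl e')) = if e = e' then 1 else 0
  T_comm : ∀ e e' x, T e (T e' x) = T e' (T e x)
  T_p : ∀ e x, (T e)^[p] x = 0
  dg_inr : ∀ k, S.dg (Sum.inr k) = 1
  x_ne : ∀ k, S.z (Sum.inr k) ≠ 0
  z_mem : ∀ a I, S.z a ∈ S.R I (S.dg a)
  H0neg : ∀ (m : ℤ) (x : Q), m < 0 → (∀ α, x ∈ S.R {α} m) → x = 0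
  H0zero : ∀ x : Q, (∀ α, x ∈ S.R {α} 0) → ∃ c, x = ι c
  root : ∀ (α : X) (m : ℤ) (x : Q), x ^ p ∈ S.R {α} (p * m) → x ∈ S.R {α} m
  mem_R : ∀ (I : Finset X) (m : ℤ) (x : Q),
    x ∈ S.R I m ↔ ∃ n : ℕ, (∏ i ∈ I, S.z (Sum.inr i)) ^ n * x ∈ S.R ∅ (m + n * I.card)
  euler : ∀ D : Derivation ℤ Q Q, (∀ e, D (S.z (Sum.inl e)) = 0) →
    (∀ k, D (S.z (Sum.inr k)) = S.z (Sum.inr k)) → ∀ (m : ℤ) (x : Q), x ∈ S.R ∅ m → D x = m * x
  euler_tangent : ∀ l, ∑ k, S.g l (Sum.inr k) * S.z (Sum.inr k) = 0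

end Groth.Agent.Lefpen.H725.Arith
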