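import Groth.Agent.Lefpen.H725.PicDiv
import Groth.Agent.Lefpen.H121.T2
import Groth.Agent.Lefpen.H21.Asm44

/-!
# `p`-divisibility of the Picard group modulo `O(1)`, concrete form

`hdiv` is the hypothesis of the same name of `H21.Asm44.result_of`.
-/

set_option autoImplicit false
set_option linter.unusedSectionVars false
universe u
open CategoryTheory CategoryTheory.Limits AlgebraicGeometry TopologicalSpace Opposite MvPolynomial
open LefPen

namespace Groth.Agent.Lefpen.H725.PdivFinal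

open Groth.Agent.Lefpen.H718.Reg Groth.Agent.Lefpen.H718.ConeCM Groth.Agent.Lefpen.H718.Grade
open Groth.Agent.Lefpen.H718.Chart Groth.Agent.Lefpen.H61.T4Phi
open Groth.Agent.Lefpen.H725.Frame Groth.Agent.Lefpen.H725.Dict Groth.Agent.Lefpen.H21.Asm44

/-- The arithmetic theorem: over a separably closed field `K` with a frame given by the coefficients of `G`,
every invertible module on `V(G)` is a `p`-th power modulo the `O(e)`. -/
theorem hdiv (p : ℕ) [Fact p.Prime] (d : ℕ) (a : Fin d → ℕ) (_hd : 1 ≤ d) (ha : ∀ j, 2 ≤ a j)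
    (hex : 2 < ∑ j, (a j - 1)) (K : Type u) [Field K] [CharP K p] [IsSepClosed K]
    (F : Frame K (Idx (2 + d) a)) (G : ∀ j, Form (2 + d) K (a j)) (hF : ∀ jm, F.z jm = coeffs G jm)
    (hJ : JacCond (fun j ↦ (G j).1)) : PDiv p G := by
  classical
  have ha1 : ∀ j, 1 ≤ a j := fun j => le_trans one_le_two (ha j)
  have hh : ∀ i, (eqn G i).IsHomogeneous (a i) := fun i => (G i).2
  have hg0 : ∀ i, constantCoeff (eqn G i) = 0 := fun i => by
    rw [constantCoeff_eq]
    by_contra h0
    have h1 := hh i h0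
    rw [map_zero] at h1
    have := ha1 i
    omega
  have hJ' : JacCond (eqn G) := hJ
  have hdom : IsDomain (A (eqn G)) := isDomain (eqn G) hh hg0 hJ' (rfl : 2 + d = 2 + d) one_le_two
  have hint : IsIntegrallyClosed (A (eqn G)) := isIntegrallyClosed (eqn G) hh hg0 hJ' (rfl : 2 + d = 2 + d) one_le_two
  have hx : ∀ i, mk (eqn G) (X i) ≠ 0 := fun i h0 =>
    Groth.Agent.Lefpen.H121.XNe.X_notMem (eqn G) F ha1 hh (by omega) (fun jm => hF jm) i
      (Ideal.Quotient.eq_zero_iff_mem.1 h0)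
  have hY : IsIntegral (Y G) := Groth.Agent.Lefpen.H61.T4Int.isIntegral_Y G ha1 hJ' (rfl : 2 + d = 2 + d) one_le_two
  have hC : CompactSpace (Y G) := Groth.Agent.Lefpen.H21.NL9.compactSpace_subscheme (ciIdeal G)
  have hfin : Fintype (Idx (2 + d) a) := Fintype.ofFinite _
  let Q := FractionRing (A (eqn G))
  obtain ⟨S, T, -, hz, hR⟩ := Groth.Agent.Lefpen.H121.T2.exists_setup p (eqn G) ha1 hh hJ' rfl hex F
    (fun jm => hF jm) Q
  obtain ⟨Φ, hΦ, hrange⟩ := exists_phi G hdom hx Q
  let Λ : Link (C := Idx (2 + d) a) (p := p) G hdom hx Q :=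
    Link.mkLink S T hz hR Φ hΦ hrange
  exact fun L hL => Groth.Agent.Lefpen.H725.PicDiv.exists_tensor_iso Λ hint L hL

end Groth.Agent.Lefpen.H725.PdivFinal
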