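import Groth.Agent.Fdesc.LocGen
import Mathlib.AlgebraicGeometry.FunctionField

/-!
# Cartier cocycles on an integral scheme: definitions

* `UnitAt x u`, `RegAt x u`: the rational function `u` is a unit (regular) at `x`;
* `HasCoc L a`: `L` has local generators `e x` near `x` with transition functions `a x / a y`.
-/

set_option autoImplicit false
universe u
open CategoryTheory CategoryTheory.Limits AlgebraicGeometry TopologicalSpace Opposite
open Groth.Agent.Fdesc.LocGen

namespace Groth.Agent.Lefpen.H725.CocDef

variable {X : Scheme.{u}} [IsIntegral X]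

/-- Germ at the generic point. -/
noncomputable def ff (U : X.Opens) (h : genericPoint X ∈ U) : Γ(X, U) →+* X.functionField :=
  (X.presheaf.germ U (genericPoint X) h).hom

/-- `u` is the germ of a unit function near `x`. -/
def UnitAt (x : X) (u : X.functionField) : Prop :=
  ∃ (U : X.Opens) (_ : x ∈ U) (hη : genericPoint X ∈ U) (g : Γ(X, U)), IsUnit g ∧ ff U hη g = u

/-- `u` is the germ of a regular function near `x`. -/
def RegAt (x : X) (u : X.functionField) : Prop :=
  ∃ (U : X.Opens) (_ : x ∈ U) (hη : genericPoint X ∈ U) (g : Γ(X, U)), ff U hη g = u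

/-- `L` has local generators `e x` near `x` with transition functions `a x / a y`. -/
def HasCoc (L : X.Modules) (a : X → X.functionField) : Prop :=
  (∀ x, a x ≠ 0) ∧ ∃ (U : X → X.Opens) (_ : ∀ x, x ∈ U x) (e : ∀ x, Γ(L, U x)), (∀ x, IsGen (e x)) ∧
    ∀ x y, ∃ (g : Γ(X, U x ⊓ U y)) (hη : genericPoint X ∈ U x ⊓ U y),
      res L inf_le_left (e x) = g • res L inf_le_right (e y) ∧ a x = ff (U x ⊓ U y) hη g * a y

end Groth.Agent.Lefpen.H725.CocDef
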