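import Groth.Agent.Lefpen.H725.Dict
import Groth.Agent.Lefpen.H521.CartierCoc
import Groth.Agent.Lefpen.H61.T4Coc

/-!
# The cover and the local equations attached to a Cartier cocycle on a complete intersection
-/

set_option autoImplicit false
set_option linter.unusedSectionVars false
universe u
open CategoryTheory CategoryTheory.Limits AlgebraicGeometry TopologicalSpace Opposite MvPolynomial
open LefPen

namespace Groth.Agent.Lefpen.H725.CoverData

open Groth.Agent.Lefpen.H718.Reg Groth.Agent.Lefpen.H718.ConeCM Groth.Agent.Lefpen.H718.Grade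
open Groth.Agent.Lefpen.H718.Chart Groth.Agent.Lefpen.H725.CocDef Groth.Agent.Lefpen.H61.T4Phi
open Groth.Agent.Lefpen.H121.ChartLift Groth.Agent.Fdesc.LocGen
open Groth.Agent.Lefpen.H725.Core Groth.Agent.Lefpen.H725.LocReg Groth.Agent.Lefpen.H725.LogForm
open Groth.Agent.Lefpen.H725.Arith Groth.Agent.Lefpen.H725.Dlog Groth.Agent.Lefpen.H725.Local
open Groth.Agent.Lefpen.H725.Dict Groth.Agent.Lefpen.H521.CartierCoc

variable {K : Type u} [Field K] {N d : ℕ} {a : Fin d → ℕ} (G : ∀ j : Fin d, Form N K (a j))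

theorem exists_chart (x : Y G) : ∃ α, x ∈ ychart G α := by
  have h := Groth.Agent.Lefpen.H708.Geo.iSup_preimage_chart (yι G)
  have hx : x ∈ ⨆ j : Fin (N + 1), yι G ⁻¹ᵁ chart N K j := by rw [h]; trivial
  exact Opens.mem_iSup.1 hx

/-- Every function on a chart is a quotient `F / T_α ^ D`. -/
theorem exists_fn' (α : Fin (N + 1)) (s : Γ(Y G, ychart G α)) : ∃ (D : ℕ) (P : MvPolynomial (Fin (N + 1)) K),
    P.IsHomogeneous D ∧ fn G α P = s := by
  obtain ⟨q, rfl⟩ := toY_surjective G α s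
  obtain ⟨M, hM⟩ := exists_homogenization α q
  obtain ⟨F, hF, rfl⟩ := hM M le_rfl
  exact ⟨M, F, hF, rfl⟩

/-- Basic opens of the charts defined by forms. -/
theorem exists_basic (x : Y G) (W : (Y G).Opens) (hxW : x ∈ W) :
    ∃ (α : Fin (N + 1)) (D : ℕ) (P : MvPolynomial (Fin (N + 1)) K), P.IsHomogeneous D ∧
      x ∈ (Y G).basicOpen (fn G α P) ∧ (Y G).basicOpen (fn G α P) ≤ W := by
  obtain ⟨α, hα⟩ := exists_chart G x
  obtain ⟨f, hfW, hxf⟩ := (isAffineOpen_ychart G α).exists_basicOpen_le (V := W) ⟨x, hxW⟩ hα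
  obtain ⟨D, P, hP, rfl⟩ := exists_fn' G α f
  exact ⟨α, D, P, hP, hxf, hfW⟩

variable [IsIntegral (Y G)] (hdom : IsDomain (A (eqn G))) (hx : ∀ i, mk (eqn G) (X i) ≠ 0)

theorem ff_fn (α β : Fin (N + 1)) {D : ℕ} {P : MvPolynomial (Fin (N + 1)) K} (hP : P.IsHomogeneous D) :
    ff (ychart G α) (generic_mem G hdom hx α) (fn G α P) =
      ff (ychart G α) (generic_mem G hdom hx α) (fn G α (X β)) ^ D *
        ff (ychart G β) (generic_mem G hdom hx β) (fn G β P) := by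
  have h1 := congrArg (ff (ychart G α ⊓ ychart G β) ⟨generic_mem G hdom hx α, generic_mem G hdom hx β⟩)
    (ores_fn G α β hP)
  rw [map_mul, map_pow, Groth.Agent.Lefpen.H61.T4Phi.ff_ores, Groth.Agent.Lefpen.H61.T4Phi.ff_ores,
    Groth.Agent.Lefpen.H61.T4Phi.ff_ores] at h1
  exact h1

theorem unitAt_pow {X : Scheme.{u}} [IsIntegral X] {x : X} {u : X.functionField} (h : UnitAt x u) (n : ℕ) :
    UnitAt x (u ^ n) := by
  obtain ⟨U, hx, hη, g, hg, rfl⟩ := h
  exact ⟨U, hx, hη, g ^ n, hg.pow n, by rw [map_pow]⟩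

theorem unitAt_one {X : Scheme.{u}} [IsIntegral X] (x : X) : UnitAt x (1 : X.functionField) :=
  ⟨⊤, trivial, trivial, 1, isUnit_one, map_one _⟩

theorem unitAt_zpow {X : Scheme.{u}} [IsIntegral X] {x : X} {u : X.functionField} (h : UnitAt x u) (n : ℤ) :
    UnitAt x (u ^ n) := by
  obtain ⟨n, rfl | rfl⟩ := n.eq_nat_or_neg
  · rw [zpow_natCast]; exact unitAt_pow h n
  · rw [zpow_neg, zpow_natCast]; exact unitAt_inv (unitAt_pow h n)

theorem unitAt_X (α β : Fin (N + 1)) {y : Y G} (hα : y ∈ ychart G α) (hβ : y ∈ ychart G β) :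
    UnitAt y (ff (ychart G α) (generic_mem G hdom hx α) (fn G α (X β))) := by
  rw [unitAt_ff_iff _ _ hα, ← inf_eq_basicOpen]
  exact ⟨hα, hβ⟩

theorem unitAt_fn_iff (α β : Fin (N + 1)) {y : Y G} (hα : y ∈ ychart G α) (hβ : y ∈ ychart G β) {D : ℕ}
    {P : MvPolynomial (Fin (N + 1)) K} (hP : P.IsHomogeneous D) :
    UnitAt y (ff (ychart G α) (generic_mem G hdom hx α) (fn G α P)) ↔
      UnitAt y (ff (ychart G β) (generic_mem G hdom hx β) (fn G β P)) := by
  have h1 := unitAt_pow (unitAt_X G hdom hx α β hα hβ) D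
  rw [ff_fn G hdom hx α β hP]
  refine ⟨fun h => ?_, fun h => unitAt_mul h1 h⟩
  have h2 := unitAt_div h h1
  rwa [mul_div_cancel_left₀ _ (unitAt_ne_zero h1)] at h2

/-- `D_+(X_α P)` in the chart `β`. -/
theorem mem_basicOpen_mul_iff (α β : Fin (N + 1)) {y : Y G} (hβ : y ∈ ychart G β) {D : ℕ}
    {P : MvPolynomial (Fin (N + 1)) K} (hP : P.IsHomogeneous D) :
    UnitAt y (ff (ychart G β) (generic_mem G hdom hx β) (fn G β (X α * P))) ↔
      y ∈ (Y G).basicOpen (fn G α P) := by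
  rw [unitAt_ff_iff _ _ hβ, map_mul, Scheme.basicOpen_mul, ← inf_eq_basicOpen]
  constructor
  · rintro ⟨⟨-, hα⟩, h⟩
    rw [← unitAt_ff_iff (generic_mem G hdom hx α) _ hα]
    rw [unitAt_fn_iff G hdom hx α β hα hβ hP, unitAt_ff_iff _ _ hβ]
    exact h
  · intro h
    have hα : y ∈ ychart G α := (Y G).basicOpen_le _ h
    refine ⟨⟨hβ, hα⟩, ?_⟩
    change y ∈ (Y G).basicOpen (fn G β P)
    rw [← unitAt_ff_iff (generic_mem G hdom hx β) _ hβ, ← unitAt_fn_iff G hdom hx α β hα hβ hP,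
      unitAt_ff_iff _ _ hα]
    exact h

variable {G hdom hx} {Q : Type u} [Field Q] [Algebra (A (eqn G)) Q] [IsFractionRing (A (eqn G)) Q]
  {C : Type} [Fintype C] [DecidableEq C] {p : ℕ} (Λ : Link (C := C) (p := p) G hdom hx Q)

theorem unitAt_xx (α β : Fin (N + 1)) {y : Y G} (hα : y ∈ ychart G α) (hβ : y ∈ ychart G β) :
    ∃ u : (Y G).functionField, UnitAt y u ∧ Λ.Φ u = xx G Q β / xx G Q α :=
  ⟨_, unitAt_X G hdom hx α β hα hβ, phi_fn_X G hdom hx Q Λ.Φ Λ.hΦ α β⟩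

/-- The cover attached to finitely many basic opens. -/
theorem exists_cov {n : ℕ} (α : Fin n → Fin (N + 1)) (D : Fin n → ℕ) (P : Fin n → MvPolynomial (Fin (N + 1)) K)
    (hP : ∀ i, (P i).IsHomogeneous (D i)) (hcov : ∀ y : Y G, ∃ i, y ∈ (Y G).basicOpen (fn G (α i) (P i))) :
    ∃ U : Cov Λ.S (Fin n), (∀ i, U.h i = vv G Q (X (α i) * P i)) ∧ ∀ i, U.dh i = D i + 1 := by
  have hH : ∀ i, (X (α i) * P i : MvPolynomial (Fin (N + 1)) K).IsHomogeneous (1 + D i) := fun i =>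
    (isHomogeneous_X K (α i)).mul (hP i)
  refine ⟨{ h := fun i => vv G Q (X (α i) * P i), dh := fun i => D i + 1, h_mem := fun i => ?_, cov := fun β => ?_ },
    fun i => rfl, fun i => rfl⟩
  · have := Λ.form_mem (hH i)
    convert this using 1
    push_cast
    ring_nf
  · have h1 : Ideal.span (Set.range fun i => fn G β (X (α i) * P i)) = ⊤ := by
      rw [← (isAffineOpen_ychart G β).self_le_iSup_basicOpen_iff]
      intro y hy
      obtain ⟨i, hi⟩ := hcov y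
      rw [iSup_range', Opens.mem_iSup]
      refine ⟨i, ?_⟩
      rw [← unitAt_ff_iff (generic_mem G hdom hx β) _ hy, mem_basicOpen_mul_iff G hdom hx (α i) β hy (hP i)]
      exact hi
    have h2 : (1 : Γ(Y G, ychart G β)) ∈ Ideal.span (Set.range fun i => fn G β (X (α i) * P i)) := by
      rw [h1]; trivial
    obtain ⟨c, hc⟩ := (Ideal.mem_span_range_iff_exists_fun).1 h2
    have hxx := xx_ne_zero G hx Q β
    let ψ : Γ(Y G, ychart G β) →+* Q := Λ.Φ.comp (ff (ychart G β) (generic_mem G hdom hx β))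
    have hψ : ∀ s, ψ s ∈ Λ.S.R {β} 0 := fun s => Λ.phi_mem β s
    refine ⟨fun i => ψ (c i) * (xx G Q β)⁻¹ ^ (1 + D i), fun i => ?_, ?_⟩
    · refine mul_mem' Λ.S (hψ _) (pow_mem Λ.S ?_ (1 + D i)) (m' := ((1 + D i : ℕ) : ℤ) * (-1)) (by push_cast; ring)
      have := x_inv_mem Λ.T β
      rwa [Λ.hz] at this
    · have h3 := congrArg ψ hc
      rw [map_sum, map_one] at h3
      rw [← h3]
      refine Finset.sum_congr rfl fun i _ => ?_
      have h4 : ψ (fn G β (X (α i) * P i)) = vv G Q (X (α i) * P i) / xx G Q β ^ (1 + D i) :=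
        Λ.phi_fn' β (hH i)
      change ψ (c i) * (xx G Q β)⁻¹ ^ (1 + D i) * vv G Q (X (α i) * P i) = _
      rw [map_mul ψ, h4, inv_pow]
      ring

/-- The local equations attached to a Cartier cocycle. -/
theorem exists_udata {n : ℕ} (α : Fin n → Fin (N + 1)) (D : Fin n → ℕ) (P : Fin n → MvPolynomial (Fin (N + 1)) K)
    (hP : ∀ i, (P i).IsHomogeneous (D i)) (U : Cov Λ.S (Fin n)) (hU : ∀ i, U.h i = vv G Q (X (α i) * P i))
    (hdU : ∀ i, U.dh i = D i + 1) (c : Fin n → (Y G).functionField) (hc0 : ∀ i, c i ≠ 0)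
    (hc : ∀ i j, ∀ y ∈ (Y G).basicOpen (fn G (α i) (P i)), y ∈ (Y G).basicOpen (fn G (α j) (P j)) →
      UnitAt y (c i / c j)) :
    ∃ A : UData U, ∀ i, A.a i = Λ.Φ (c i) := by
  have hH : ∀ i, (X (α i) * P i : MvPolynomial (Fin (N + 1)) K).IsHomogeneous (1 + D i) := fun i =>
    (isHomogeneous_X K (α i)).mul (hP i)
  refine ⟨{ a := fun i => Λ.Φ (c i), a_ne := fun i => (map_ne_zero Λ.Φ).2 (hc0 i), unit := fun β i j => ?_ },
    fun i => rfl⟩
  have hHH := (hH i).mul (hH j)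
  obtain ⟨m, b, hb⟩ := Groth.Agent.Lefpen.H61.T4Coc.exists_pow_mul G hdom hx β (fn G β (X (α i) * P i * (X (α j) * P j))) (c i / c j)
    (fun y hy hu => by
      rw [unitAt_ff_iff _ _ hy, map_mul, Scheme.basicOpen_mul] at hu
      obtain ⟨hu1, hu2⟩ := hu
      replace hu1 := (unitAt_ff_iff (generic_mem G hdom hx β) _ hy).2 hu1
      replace hu2 := (unitAt_ff_iff (generic_mem G hdom hx β) _ hy).2 hu2
      rw [mem_basicOpen_mul_iff G hdom hx _ β hy (hP i)] at hu1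
      rw [mem_basicOpen_mul_iff G hdom hx _ β hy (hP j)] at hu2
      exact unitAt_regAt (hc i j y hu1 hu2))
  refine ⟨m, ?_⟩
  have h1 := congrArg Λ.Φ hb
  rw [map_mul, map_pow, Λ.phi_fn' β hHH, map_mul (vv G Q)] at h1
  have hxx := xx_ne_zero G hx Q β
  have h2 : (U.h i * U.h j) ^ m * (Λ.Φ (c i) / Λ.Φ (c j)) =
      Λ.Φ (ff (ychart G β) (generic_mem G hdom hx β) b) * (xx G Q β ^ (1 + D i + (1 + D j))) ^ m := by
    rw [h1, hU, hU, ← map_div₀, div_pow]
    field_simp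
  rw [h2]
  have h3 := x_mem Λ.T β
  rw [Λ.hz] at h3
  refine mul_mem' Λ.S (Λ.phi_mem β b) (pow_mem Λ.S (pow_mem Λ.S h3 _) m) ?_
  rw [hdU, hdU]
  push_cast; ring

/-- The functions of degree zero near a point, as rational functions. -/
theorem exists_of_Bh {n : ℕ} {α : Fin n → Fin (N + 1)} {D : Fin n → ℕ} {P : Fin n → MvPolynomial (Fin (N + 1)) K}
    (hP : ∀ i, (P i).IsHomogeneous (D i)) {U : Cov Λ.S (Fin n)} (hU : ∀ i, U.h i = vv G Q (X (α i) * P i))
    (hdU : ∀ i, U.dh i = D i + 1) (i : Fin n) {y : Y G} (hy : y ∈ (Y G).basicOpen (fn G (α i) (P i)))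
    (s : Bh (U.h_mem i) (α i)) : ∃ u : (Y G).functionField, RegAt y u ∧ Λ.Φ u = s := by
  have hH : (X (α i) * P i : MvPolynomial (Fin (N + 1)) K).IsHomogeneous (1 + D i) :=
    (isHomogeneous_X K (α i)).mul (hP i)
  have hyα : y ∈ ychart G (α i) := (Y G).basicOpen_le _ hy
  have hunit := (mem_basicOpen_mul_iff G hdom hx (α i) (α i) hyα (hP i)).2 hy
  have hxx := xx_ne_zero G hx Q (α i)
  obtain ⟨m, hm⟩ := s.2
  rw [zero_add] at hm
  have h3 := x_inv_mem Λ.T (α i)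
  rw [Λ.hz] at h3
  have h4 : (xx G Q (α i))⁻¹ ^ ((1 + D i) * m) * (U.h i ^ m * (s : Q)) ∈ Λ.S.R {α i} 0 := by
    refine mul_mem' Λ.S (pow_mem Λ.S h3 _) hm ?_
    rw [hdU]; push_cast; ring
  obtain ⟨b, hb⟩ := Λ.exists_of_mem (α i) h4
  set w := ff (ychart G (α i)) (generic_mem G hdom hx (α i)) (fn G (α i) (X (α i) * P i)) with hw
  have hw0 : Λ.Φ w = vv G Q (X (α i) * P i) / xx G Q (α i) ^ (1 + D i) := Λ.phi_fn' (α i) hH
  have hwne : w ≠ 0 := unitAt_ne_zero hunit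
  refine ⟨ff (ychart G (α i)) (generic_mem G hdom hx (α i)) b / w ^ m, ?_, ?_⟩
  · obtain ⟨V, hyV, hηV, g, hg⟩ := unitAt_regAt (unitAt_inv (unitAt_pow hunit m))
    refine ⟨ychart G (α i) ⊓ V, ⟨hyα, hyV⟩, ⟨generic_mem G hdom hx (α i), hηV⟩,
      ores inf_le_left b * ores inf_le_right g, ?_⟩
    rw [map_mul, Groth.Agent.Lefpen.H61.T4Phi.ff_ores, Groth.Agent.Lefpen.H61.T4Phi.ff_ores, hg, div_eq_mul_inv]
  · rw [map_div₀, hb, map_pow, hw0, ← hU]
    have hh : U.h i ≠ 0 := by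
      intro h0
      rw [hU] at h0
      rw [h0, zero_div] at hw0
      exact hwne ((map_eq_zero Λ.Φ).1 hw0)
    rw [div_pow, inv_pow, pow_mul]
    field_simp

end Groth.Agent.Lefpen.H725.CoverData
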