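import Groth.Agent.Lefpen.H725.LogForm
import Groth.Agent.Lefpen.H725.Arith

/-!
# The absolute logarithmic form can be chosen closed

`curv η` is the curvature `dη`; `exists_closed`: there is `η` with `LogReg A η` and `curv η = 0`.
-/

set_option autoImplicit false
universe u

open Finset

namespace Groth.Agent.Lefpen.H725.Curv

open Groth.Agent.Lefpen.H725.Core Groth.Agent.Lefpen.H725.LocReg Groth.Agent.Lefpen.H725.LogForm
open Groth.Agent.Lefpen.H725.Arith

section gen

variable {Q : Type u} [Field Q]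

theorem smul_lie' (f : Q) (D D' : Derivation ℤ Q Q) : ⁅f • D, D'⁆ = f • ⁅D, D'⁆ - D' f • D := by
  ext x
  simp only [Derivation.commutator_apply, Derivation.smul_apply, Derivation.sub_apply, smul_eq_mul,
    Derivation.leibniz]
  ring

theorem lie_smul' (f : Q) (D D' : Derivation ℤ Q Q) : ⁅D, f • D'⁆ = f • ⁅D, D'⁆ + D f • D' := by
  ext x
  simp only [Derivation.commutator_apply, Derivation.smul_apply, Derivation.add_apply, smul_eq_mul,
    Derivation.leibniz]
  ring

/-- The curvature of a 1-form. -/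
noncomputable def curv (η : Derivation ℤ Q Q →ₗ[Q] Q) : Derivation ℤ Q Q →ₗ[Q] Derivation ℤ Q Q →ₗ[Q] Q :=
  LinearMap.mk₂ Q (fun D D' => D (η D') - D' (η D) - η ⁅D, D'⁆)
    (fun D₁ D₂ D' => by simp only [add_lie, map_add, Derivation.add_apply]; ring)
    (fun c D D' => by
      simp only [smul_lie', map_sub, map_smul, Derivation.smul_apply, smul_eq_mul, Derivation.leibniz]; ring)
    (fun D D₁ D₂ => by simp only [lie_add, map_add, Derivation.add_apply]; ring)
    (fun c D D' => by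
      simp only [lie_smul', map_add, map_smul, Derivation.smul_apply, smul_eq_mul, Derivation.leibniz]; ring)

theorem curv_apply (η : Derivation ℤ Q Q →ₗ[Q] Q) (D D' : Derivation ℤ Q Q) :
    curv η D D' = D (η D') - D' (η D) - η ⁅D, D'⁆ := rfl

theorem curv_anti (η : Derivation ℤ Q Q →ₗ[Q] Q) (D D' : Derivation ℤ Q Q) : curv η D D' = - curv η D' D := by
  rw [curv_apply, curv_apply, ← lie_skew D D', map_neg]
  ring

theorem curv_dlog {x : Q} (hx : x ≠ 0) (D D' : Derivation ℤ Q Q) : curv (dlogForm x) D D' = 0 := by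
  rw [curv_apply, dlogForm_apply, dlogForm_apply, dlogForm_apply, Derivation.leibniz_div,
    Derivation.leibniz_div, Derivation.commutator_apply]
  simp only [smul_eq_mul]
  field_simp
  ring

theorem curv_sub (η θ : Derivation ℤ Q Q →ₗ[Q] Q) (D D' : Derivation ℤ Q Q) :
    curv (η - θ) D D' = curv η D D' - curv θ D D' := by
  simp only [curv_apply, LinearMap.sub_apply, map_sub]
  ring

theorem curv_add (η θ : Derivation ℤ Q Q →ₗ[Q] Q) (D D' : Derivation ℤ Q Q) :
    curv (η + θ) D D' = curv η D D' + curv θ D D' := by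
  simp only [curv_apply, LinearMap.add_apply, map_add]
  ring

end gen

variable {Q : Type u} [Field Q] {X C L : Type} [Fintype X] [DecidableEq X]
    [Fintype C] [DecidableEq C] [Fintype L] [DecidableEq L] {S : Setup Q X C L}
    {ιc : Type} [Fintype ιc] {U : Cov S ιc} (A : UData U)

theorem lie_coord_mem (α : X) (b c a : C ⊕ X) :
    ⁅E S α b, E S α c⁆ (S.z a) ∈ S.R {α} ((- S.dg b - S.dg c) + S.dg a) := by
  rw [Derivation.commutator_apply]
  refine AddSubgroup.sub_mem _ ?_ ?_
  · have := S.der_mem (E S α b) {α} (- S.dg b) (E_mem S α b) _ _ (E_mem S α c a)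
    convert this using 1
    ring_nf
  · have := S.der_mem (E S α c) {α} (- S.dg c) (E_mem S α c) _ _ (E_mem S α b a)
    convert this using 1
    ring_nf

/-- The curvature of the logarithmic form is regular. -/
theorem curv_mem {η : Derivation ℤ Q Q →ₗ[Q] Q} (hη : LogReg A η) (α : X) (b c : C ⊕ X) :
    curv η (E S α b) (E S α c) ∈ S.R {α} (- S.dg b - S.dg c) := by
  refine U.glue (α := α) (by simp) fun j => ?_
  have h1 : curv η (E S α b) (E S α c) = curv (η - dlogForm (A.a j)) (E S α b) (E S α c) := by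
    rw [curv_sub, curv_dlog (A.a_ne j), sub_zero]
  rw [h1, curv_apply]
  set ω := η - dlogForm (A.a j) with hω
  have h2 : ∀ b, ω (E S α b) ∈ Rh S (U.h_mem j) {α} (- S.dg b) := fun b => hη α j b
  refine AddSubgroup.sub_mem _ (AddSubgroup.sub_mem _ ?_ ?_) ?_
  · have := Rh_der S (U.h_mem j) (E_mem S α b) (h2 c)
    rwa [← sub_eq_add_neg] at this
  · have := Rh_der S (U.h_mem j) (E_mem S α c) (h2 b)
    convert this using 1
    ring_nf
  · have := form_Rh S (U.h_mem j) ω α {α} 0 (fun a => by rw [zero_sub]; exact h2 a) (- S.dg b - S.dg c)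
      ⁅E S α b, E S α c⁆ (fun a => R_le_Rh S _ _ _ (lie_coord_mem α b c a))
    rwa [zero_add] at this

variable {K : Type u} [Field K] {p : ℕ} (T : AData S K p)

/-- The form `∑ h_e dc_e`. -/
noncomputable def cForm (h : C → K) : Derivation ℤ Q Q →ₗ[Q] Q where
  toFun D := ∑ e, D (S.z (Sum.inl e)) * T.ι (h e)
  map_add' D D' := by simp only [Derivation.add_apply, add_mul, Finset.sum_add_distrib]
  map_smul' c D := by
    simp only [Derivation.smul_apply, smul_eq_mul, RingHom.id_apply, Finset.mul_sum, mul_assoc]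

theorem cForm_apply (h : C → K) (D : Derivation ℤ Q Q) :
    cForm T h D = ∑ e, D (S.z (Sum.inl e)) * T.ι (h e) := rfl

theorem cForm_mem (h : C → K) (α : X) (b : C ⊕ X) : cForm T h (E S α b) ∈ S.R {α} (- S.dg b) := by
  rw [cForm_apply]
  refine AddSubgroup.sum_mem _ fun e _ => mul_mem' S (E_mem S α b _) (T.ι_mem (h e) {α}) ?_
  rw [S.dg_inl]; ring

theorem logReg_sub {η : Derivation ℤ Q Q →ₗ[Q] Q} (hη : LogReg A η) (θ : Derivation ℤ Q Q →ₗ[Q] Q)
    (hθ : ∀ α b, θ (E S α b) ∈ S.R {α} (- S.dg b)) : LogReg A (η - θ) := by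
  intro α j b
  have h1 : (η - θ - dlogForm (A.a j)) (E S α b) = (η - dlogForm (A.a j)) (E S α b) - θ (E S α b) := by
    simp only [LinearMap.sub_apply]; ring
  rw [h1]
  exact AddSubgroup.sub_mem _ (hη α j b) (R_le_Rh S _ _ _ (hθ α b))

theorem logReg_add {η : Derivation ℤ Q Q →ₗ[Q] Q} (hη : LogReg A η) (θ : Derivation ℤ Q Q →ₗ[Q] Q)
    (hθ : ∀ α b, θ (E S α b) ∈ S.R {α} (- S.dg b)) : LogReg A (η + θ) := by
  intro α j b
  have h1 : (η + θ - dlogForm (A.a j)) (E S α b) = (η - dlogForm (A.a j)) (E S α b) + θ (E S α b) := by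
    simp only [LinearMap.sub_apply, LinearMap.add_apply]; ring
  rw [h1]
  exact AddSubgroup.add_mem _ (hη α j b) (R_le_Rh S _ _ _ (hθ α b))

/-- The curvature of `∑ h_e dc_e`. -/
theorem curv_cForm (h : C → K) (D D' : Derivation ℤ Q Q) :
    curv (cForm T h) D D' = ∑ e, ∑ e', D (S.z (Sum.inl e)) * (D' (S.z (Sum.inl e')) *
      T.ι (T.F.D e (h e') - T.F.D e' (h e))) := by
  rw [curv_apply, cForm_apply, cForm_apply, cForm_apply, map_sum, map_sum]
  simp only [Derivation.leibniz, smul_eq_mul, Derivation.commutator_apply, T.der_ι D, T.der_ι D', map_sub,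
    Finset.sum_add_distrib, sub_mul, mul_sub, Finset.sum_sub_distrib, Finset.mul_sum]
  have h1 : ∑ x, ∑ i, D (S.z (Sum.inl x)) * (D' (S.z (Sum.inl i)) * T.ι (T.F.D i (h x))) =
      ∑ x, ∑ i, D' (S.z (Sum.inl x)) * (D (S.z (Sum.inl i)) * T.ι (T.F.D x (h i))) := by
    rw [Finset.sum_comm]
    exact Finset.sum_congr rfl fun x _ => Finset.sum_congr rfl fun i _ => by ring
  have h2 : ∑ x, ∑ i, D (S.z (Sum.inl x)) * (D' (S.z (Sum.inl i)) * T.ι (T.F.D x (h i))) =
      ∑ x, ∑ i, D' (S.z (Sum.inl x)) * (D (S.z (Sum.inl i)) * T.ι (T.F.D i (h x))) := by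
    rw [Finset.sum_comm]
    exact Finset.sum_congr rfl fun x _ => Finset.sum_congr rfl fun i _ => by ring
  have h3 : ∑ x, T.ι (h x) * D (D' (S.z (Sum.inl x))) = ∑ x, D (D' (S.z (Sum.inl x))) * T.ι (h x) :=
    Finset.sum_congr rfl fun x _ => by ring
  have h4 : ∑ x, T.ι (h x) * D' (D (S.z (Sum.inl x))) = ∑ x, D' (D (S.z (Sum.inl x))) * T.ι (h x) :=
    Finset.sum_congr rfl fun x _ => by ring
  rw [h3, h4, h2]
  rw [h1]
  ring

/-- **The logarithmic form can be chosen closed.** -/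
theorem exists_closed [Nonempty X] (ρ : Q →+ K) (hρ : ∀ e x, ρ (T.T e x) = T.F.D e (ρ x))
    (hρι : ∀ c, ρ (T.ι c) = c) : ∃ η, LogReg A η ∧ ∀ D D', curv η D D' = 0 := by
  obtain ⟨η, hη⟩ := exists_logReg A
  obtain ⟨h, hh, hB⟩ := global_two_form S (curv η) (curv_anti η) (curv_mem A hη)
  have hzero : ∀ a b, (¬ ∃ e e', a = Sum.inl e ∧ b = Sum.inl e') → h a b = 0 := by
    intro a b hab
    refine T.H0neg (- S.dg a - S.dg b) _ ?_ (fun α => hh α a b)
    rcases a with e | k
    · rcases b with e' | k'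
      · exact absurd ⟨e, e', rfl, rfl⟩ hab
      · rw [S.dg_inl, T.dg_inr]; norm_num
    · rcases b with e' | k'
      · rw [S.dg_inl, T.dg_inr]; norm_num
      · rw [T.dg_inr, T.dg_inr]; norm_num
  have hconst : ∀ e e', ∃ c : K, h (Sum.inl e) (Sum.inl e') = T.ι c := by
    intro e e'
    refine T.H0zero _ fun α => ?_
    have := hh α (Sum.inl e) (Sum.inl e')
    rwa [S.dg_inl, S.dg_inl, neg_zero, sub_zero] at this
  choose κ hκ using hconst
  have hB' : ∀ D D', curv η D D' =
      ∑ e, ∑ e', D (S.z (Sum.inl e)) * (D' (S.z (Sum.inl e')) * T.ι (κ e e')) := by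
    intro D D'
    rw [hB, Fintype.sum_sum_type]
    have h1 : ∑ k, ∑ b, D (S.z (Sum.inr k)) * (D' (S.z b) * h (Sum.inr k) b) = 0 := by
      refine Finset.sum_eq_zero fun k _ => Finset.sum_eq_zero fun b _ => ?_
      rw [hzero _ _ (by rintro ⟨e, e', h1, h2⟩; cases h1), mul_zero, mul_zero]
    rw [h1, add_zero]
    refine Finset.sum_congr rfl fun e _ => ?_
    rw [Fintype.sum_sum_type]
    have h2 : ∑ k, D (S.z (Sum.inl e)) * (D' (S.z (Sum.inr k)) * h (Sum.inl e) (Sum.inr k)) = 0 := by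
      refine Finset.sum_eq_zero fun k _ => ?_
      rw [hzero _ _ (by rintro ⟨e, e', h1, h2⟩; cases h2), mul_zero, mul_zero]
    rw [h2, add_zero]
    exact Finset.sum_congr rfl fun e' _ => by rw [hκ]
  have hT : ∀ e e', curv η (T.T e) (T.T e') = T.ι (κ e e') := by
    intro e e'
    rw [hB']
    simp only [T.T_z, ite_mul, one_mul, zero_mul]
    rw [Finset.sum_eq_single e (fun x _ hx => by simp [Ne.symm hx]) (fun h => absurd (mem_univ _) h)]
    simp
  have hlie : ∀ e e', ⁅T.T e, T.T e'⁆ = 0 := by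
    intro e e'
    ext x
    rw [Derivation.commutator_apply, T.T_comm, sub_self]; rfl
  let hρe : C → K := fun e => ρ (η (T.T e))
  have hκ' : ∀ e e', κ e e' = T.F.D e (hρe e') - T.F.D e' (hρe e) := by
    intro e e'
    have h1 := hT e e'
    rw [curv_apply, hlie, map_zero, sub_zero] at h1
    have h2 := congrArg ρ h1
    rw [map_sub, hρ, hρ, hρι] at h2
    exact h2.symm
  refine ⟨η - cForm T hρe, logReg_sub A hη _ (cForm_mem T hρe), fun D D' => ?_⟩
  rw [curv_sub, hB', curv_cForm, sub_eq_zero]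
  exact Finset.sum_congr rfl fun e _ => Finset.sum_congr rfl fun e' _ => by rw [hκ']

end Groth.Agent.Lefpen.H725.Curv
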