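import Groth.Agent.Lefpen.H725.Dlog
import Groth.Agent.Models.H43.PCurv

/-!
# The local structure of `f`: a unit times a local equation times a `p`-th power

* `exists_local_root`: `f = x_α ^ e * a j * s * b ^ p` near any given point of the chart `α` where `h j ≠ 0`;
* `exists_main`: the whole abstract theorem.
-/

set_option autoImplicit false
universe u

open Finset

namespace Groth.Agent.Lefpen.H725.Local

open Groth.Agent.Lefpen.H725.Core Groth.Agent.Lefpen.H725.LocReg Groth.Agent.Lefpen.H725.LogForm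
open Groth.Agent.Lefpen.H725.Arith Groth.Agent.Lefpen.H725.Curv Groth.Agent.Lefpen.H725.Frame
open Groth.Agent.Lefpen.H411 Groth.Agent.Ega41 Groth.Agent.Lefpen.H725.Fix Groth.Agent.Lefpen.H725.Dlog

/-- Restriction of a derivation to a stable subring. -/
def restr {Q : Type*} [Field Q] (B : Subring Q) (D : Derivation ℤ Q Q) (h : ∀ x ∈ B, D x ∈ B) : Derivation ℤ B B :=
  Derivation.mk'
    { toFun := fun x => ⟨D x, h x x.2⟩
      map_add' := fun x y => Subtype.ext (map_add D _ _)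
      map_smul' := fun c x => Subtype.ext (by
        change D ((c • x : B) : Q) = ((c • (⟨D x, h x x.2⟩ : B) : B) : Q)
        have h1 : ((c • x : B) : Q) = c • (x : Q) := rfl
        have h2 : ((c • (⟨D x, h x x.2⟩ : B) : B) : Q) = c • D x := rfl
        rw [h1, h2, D.map_smul]) }
    (fun x y => Subtype.ext (by
      change D ((x : Q) * y) = ((x : Q) * D y + (y : Q) * D x)
      rw [Derivation.leibniz]; rfl))

theorem restr_apply {Q : Type*} [Field Q] (B : Subring Q) (D : Derivation ℤ Q Q) (h : ∀ x ∈ B, D x ∈ B) (x : B) :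
    ((restr B D h x : B) : Q) = D x := rfl

theorem restr_iterate {Q : Type*} [Field Q] (B : Subring Q) (D : Derivation ℤ Q Q) (h : ∀ x ∈ B, D x ∈ B)
    (n : ℕ) (x : B) : (((restr B D h)^[n] x : B) : Q) = D^[n] x := by
  induction n generalizing x with
  | zero => rfl
  | succ n ih => rw [Function.iterate_succ_apply, Function.iterate_succ_apply, ih, restr_apply]

theorem dlog_comm {Q : Type*} [Field Q] (D D' : Derivation ℤ Q Q) (h : ∀ x, D (D' x) = D' (D x)) (g : Q) :
    D (D' g / g) = D' (D g / g) := by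
  rw [Derivation.leibniz_div, Derivation.leibniz_div, h]
  simp only [smul_eq_mul]
  ring

theorem div_const {Q : Type*} [Field Q] (D : Derivation ℤ Q Q) {g s : Q} (hg : g ≠ 0) (hs : s ≠ 0)
    (h : D s = D g / g * s) : D (g / s) = 0 := by
  rw [Derivation.leibniz_div, h]
  simp only [smul_eq_mul]
  field_simp
  ring

variable {Q : Type u} [Field Q] {X C L : Type} [Fintype X] [DecidableEq X]
    [Fintype C] [DecidableEq C] [Fintype L] [DecidableEq L] {S : Setup Q X C L}

/-- The ring of functions of degree zero on the part `h ≠ 0` of the chart `α`. -/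
def Bh {h : Q} {dh : ℤ} (hh : h ∈ S.R ∅ dh) (α : X) : Subring Q where
  carrier := Rh S hh {α} 0
  mul_mem' ha hb := Rh_mul S hh ha hb (by ring)
  one_mem' := Rh_one S hh _
  add_mem' ha hb := AddSubgroup.add_mem _ ha hb
  zero_mem' := AddSubgroup.zero_mem _
  neg_mem' ha := AddSubgroup.neg_mem _ ha

theorem mem_Bh {h : Q} {dh : ℤ} (hh : h ∈ S.R ∅ dh) (α : X) (x : Q) : x ∈ Bh hh α ↔ x ∈ Rh S hh {α} 0 := Iff.rfl

variable {K : Type u} [Field K] {p : ℕ} (T : AData S K p)

include T in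
theorem x_inv_mem (α : X) : (S.z (Sum.inr α))⁻¹ ∈ S.R {α} (-1) := by
  rw [T.mem_R]
  refine ⟨1, ?_⟩
  rw [Finset.prod_singleton, pow_one, mul_inv_cancel₀ (T.x_ne α), Finset.card_singleton]
  simpa using S.one_mem ∅

include T in
theorem x_mem (α : X) : S.z (Sum.inr α) ∈ S.R {α} 1 := by
  have := T.z_mem (Sum.inr α) {α}
  rwa [T.dg_inr] at this

include T in
theorem x_zpow_mem (α : X) (n : ℤ) : S.z (Sum.inr α) ^ n ∈ S.R {α} n := by
  obtain ⟨n, rfl | rfl⟩ := n.eq_nat_or_neg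
  · rw [zpow_natCast]
    simpa using pow_mem S (x_mem T α) n
  · rw [zpow_neg, zpow_natCast, ← inv_pow]
    simpa using pow_mem S (x_inv_mem T α) n

/-- The coordinates of the affine chart `α`. -/
def Jdx (S : Setup Q X C L) (α : X) : Type := {i : Idx S α // i.1 ≠ Sum.inr α}

noncomputable instance (α : X) : Fintype (Jdx S α) := by
  classical
  unfold Jdx
  infer_instance

/-- The frame derivations of degree zero. -/
noncomputable def Dbar (α : X) (i : Jdx S α) : Derivation ℤ Q Q :=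
  (S.z (Sum.inr α)) ^ (S.dg i.1.1) • E S α i.1.1

/-- The frame coordinates of degree zero. -/
noncomputable def tbar (α : X) (i : Jdx S α) : Q := S.z i.1.1 * (S.z (Sum.inr α)) ^ (- S.dg i.1.1)

theorem Dbar_apply (α : X) (i : Jdx S α) (x : Q) :
    Dbar α i x = (S.z (Sum.inr α)) ^ (S.dg i.1.1) * E S α i.1.1 x := rfl

include T in
theorem Dbar_coord (α : X) (i : Jdx S α) (a : C ⊕ X) : Dbar α i (S.z a) ∈ S.R {α} (0 + S.dg a) := by
  rw [Dbar_apply]
  exact mul_mem' S (x_zpow_mem T α _) (E_mem S α i.1.1 a) (by ring)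

theorem E_x (α : X) (i : Jdx S α) : E S α i.1.1 (S.z (Sum.inr α)) = 0 := by
  have h1 := (chartFrame S α).dual i.1 ⟨Sum.inr α, fun l => by simp⟩
  rw [if_neg] at h1
  · exact h1
  · intro h; exact i.2 (congrArg Subtype.val h)

theorem E_x_zpow (α : X) (i : Jdx S α) (n : ℤ) : E S α i.1.1 ((S.z (Sum.inr α)) ^ n) = 0 := by
  rw [Derivation.leibniz_zpow, E_x]
  simp

include T in
theorem Dbar_t (α : X) (i j : Jdx S α) [Decidable (i = j)] : Dbar α i (tbar α j) = if i = j then 1 else 0 := by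
  have h1 : E S α i.1.1 (S.z j.1.1) = if i.1 = j.1 then 1 else 0 := (chartFrame S α).dual i.1 j.1
  rw [Dbar_apply, tbar, Derivation.leibniz, E_x_zpow, smul_zero, zero_add, h1]
  by_cases h : i = j
  · subst h
    rw [if_pos rfl, if_pos rfl, smul_eq_mul, mul_one, ← zpow_add₀ (T.x_ne α), add_neg_cancel, zpow_zero]
  · rw [if_neg h, if_neg (fun h' => h (Subtype.ext h')), smul_zero, mul_zero]

theorem Dbar_comm (α : X) (i j : Jdx S α) (x : Q) : Dbar α i (Dbar α j x) = Dbar α j (Dbar α i x) := by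
  have h1 : E S α i.1.1 (E S α j.1.1 x) = E S α j.1.1 (E S α i.1.1 x) := Cartier.comm (chartFrame S α) i.1 j.1 x
  simp only [Dbar_apply, Derivation.leibniz, E_x_zpow, smul_eq_mul]
  rw [h1]
  ring

theorem Dbar_p [Fact p.Prime] [CharP Q p] (α : X) (i : Jdx S α) (x : Q) : (Dbar α i)^[p] x = 0 := by
  have h1 : ∀ n (x : Q), (Dbar α i)^[n] x = ((S.z (Sum.inr α)) ^ (S.dg i.1.1)) ^ n * (E S α i.1.1)^[n] x := by
    intro n
    induction n with
    | zero => intro x; simp
    | succ n ih =>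
      intro x
      rw [Function.iterate_succ_apply, ih, Function.iterate_succ_apply, Dbar_apply,
        Cartier.iterate_const_mul _ _ (E_x_zpow α i _)]
      ring
  have h2 : (E S α i.1.1)^[p] x = 0 := Cartier.iter_p (chartFrame S α) p i.1 x
  rw [h1, h2, mul_zero]

include T in
/-- The Euler derivation. -/
theorem euler_apply (α : X) {m : ℤ} {x : Q} (hx : Qh S m x) :
    ∑ k, S.z (Sum.inr k) * E S α (Sum.inr k) x = m * x := by
  let D : Derivation ℤ Q Q := ∑ k, S.z (Sum.inr k) • E S α (Sum.inr k)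
  have hD : ∀ y, D y = ∑ k, S.z (Sum.inr k) * E S α (Sum.inr k) y := fun y => by
    rw [sum_der_apply]; rfl
  have h1 : ∀ e, D (S.z (Sum.inl e)) = 0 := by
    intro e
    rw [hD]
    simp only [E_apply]
    unfold vecE
    have h2 : ∀ k, S.z (Sum.inr k) * ((if (Sum.inl e : C ⊕ X) = Sum.inr k then (1 : Q) else 0) -
        ∑ l, if (Sum.inl e : C ⊕ X) = Sum.inl (S.pr l α) then S.g l (Sum.inr k) * S.w l α else 0) =
        - ∑ l, if (Sum.inl e : C ⊕ X) = Sum.inl (S.pr l α) then (S.g l (Sum.inr k) * S.z (Sum.inr k)) * S.w l α else 0 := by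
      intro k
      rw [if_neg (by simp), zero_sub, mul_neg, Finset.mul_sum]
      congr 1
      refine Finset.sum_congr rfl fun l _ => ?_
      split_ifs
      · ring
      · rw [mul_zero]
    rw [Finset.sum_congr rfl fun k _ => h2 k, Finset.sum_neg_distrib, Finset.sum_comm, neg_eq_zero]
    refine Finset.sum_eq_zero fun l _ => ?_
    split_ifs
    · rw [← Finset.sum_mul, T.euler_tangent, zero_mul]
    · simp
  have h2 : ∀ k, D (S.z (Sum.inr k)) = S.z (Sum.inr k) := by
    intro k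
    rw [hD]
    simp only [E_apply]
    unfold vecE
    simp
  obtain ⟨j, s, hs, hs0, hsx⟩ := hx
  have h3 := T.euler D h1 h2 _ _ hsx
  have h4 := T.euler D h1 h2 _ _ hs
  rw [← hD]
  rw [Derivation.leibniz, h4] at h3
  simp only [smul_eq_mul] at h3
  have h5 : s * D x = s * (m * x) := by
    push_cast at h3
    linear_combination h3
  exact mul_left_cancel₀ hs0 h5

include T in
/-- A `p`-th root of a homogeneous fraction of degree zero has degree zero. -/
theorem qh_root (α : X) {b : Q} (hp0 : p ≠ 0) (hb : Qh S 0 (b ^ p)) : Qh S 0 b := by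
  obtain ⟨j, s, hs, hs0, hsx⟩ := hb
  obtain ⟨q, rfl⟩ := Nat.exists_eq_succ_of_ne_zero hp0
  have h1 : (s * b) ^ (q + 1) ∈ S.R {α} ((q + 1 : ℕ) * j) := by
    have h2 : (s * b) ^ (q + 1) = s ^ q * (s * b ^ (q + 1)) := by ring
    rw [h2]
    refine S.mono _ (empty_subset _) (mul_mem' S (pow_mem S hs q) hsx ?_)
    push_cast; ring
  have h3 := T.root α j (s * b) h1
  have h4 : b = s * b / s := by field_simp
  rw [h4]
  exact (qh_of_mem T h3).div (qh_of_mem T hs) (by ring)

variable {ιc : Type} [Fintype ιc] {U : Cov S ιc} (A : UData U)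

include T in
/-- **Local structure of `f`.** -/
theorem exists_local_root [hp : Fact p.Prime] [CharP Q p] (hA : ∀ i, Qh S 0 (A.a i))
    {η : Derivation ℤ Q Q →ₗ[Q] Q} (hη : LogReg A η) {e : ℤ} {f : Q} (hf0 : f ≠ 0) (hfe : Qh S e f)
    (hf : ∀ D, D f = η D * f) (α : X) (j : ιc) (hj : U.h j ≠ 0) (𝔮 : Ideal (Bh (U.h_mem j) α)) (h𝔮 : 𝔮 ≠ ⊤) :
    ∃ s : Bh (U.h_mem j) α, s ∉ 𝔮 ∧ ∃ b : Q, Qh S 0 b ∧
      f = (S.z (Sum.inr α)) ^ e * A.a j * s * b ^ p := by
  classical
  set g : Q := f * (S.z (Sum.inr α)) ^ (-e) / A.a j with hg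
  have hxne := T.x_ne α
  have hg0 : g ≠ 0 := div_ne_zero (mul_ne_zero hf0 (zpow_ne_zero _ hxne)) (A.a_ne j)
  have hxQ : Qh S 1 (S.z (Sum.inr α)) := qh_of_mem T (x_mem T α)
  have hgQ : Qh S 0 g := (hfe.mul (qh_zpow hxQ (-e)) (n := 0) (by ring)).div (hA j) (by ring)
  -- the logarithmic derivatives of `g`
  have hw : ∀ i : Jdx S α, Dbar α i g / g = (S.z (Sum.inr α)) ^ (S.dg i.1.1) *
      (η - dlogForm (A.a j)) (E S α i.1.1) := by
    intro i
    have h1 : dlogForm g (E S α i.1.1) = (η - dlogForm (A.a j)) (E S α i.1.1) := by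
      rw [hg, dlogForm_div (mul_ne_zero hf0 (zpow_ne_zero _ hxne)) (A.a_ne j),
        dlogForm_mul hf0 (zpow_ne_zero _ hxne), LinearMap.sub_apply, dlogForm_apply f, hf,
        dlogForm_apply (S.z (Sum.inr α) ^ (-e)), E_x_zpow, zero_div, add_zero, mul_div_assoc, div_self hf0, mul_one]
    rw [Dbar_apply, mul_div_assoc, ← h1, dlogForm_apply]
  have hwmem : ∀ i : Jdx S α, Dbar α i g / g ∈ Bh (U.h_mem j) α := by
    intro i
    rw [hw, mem_Bh]
    exact Rh_mul S _ (R_le_Rh S _ _ _ (x_zpow_mem T α (S.dg i.1.1))) (hη α j i.1.1) (by ring)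
  have hDB : ∀ (i : Jdx S α), ∀ x ∈ Bh (U.h_mem j) α, Dbar α i x ∈ Bh (U.h_mem j) α := by
    intro i x hx
    rw [mem_Bh] at hx ⊢
    have := Rh_der S (U.h_mem j) (Dbar_coord T α i) hx
    rwa [zero_add] at this
  have htmem : ∀ i : Jdx S α, tbar α i ∈ Bh (U.h_mem j) α := by
    intro i
    rw [mem_Bh]
    exact R_le_Rh S _ _ _ (mul_mem' S (T.z_mem i.1.1 {α}) (x_zpow_mem T α _) (by ring))
  let w : Jdx S α → Bh (U.h_mem j) α := fun i => ⟨_, hwmem i⟩
  let D : Jdx S α → Derivation ℤ (Bh (U.h_mem j) α) (Bh (U.h_mem j) α) := fun i => restr _ (Dbar α i) (hDB i)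
  obtain ⟨s, hs𝔮, hs⟩ := Groth.Agent.Models.H43.PCurv.exists_solution (B := Bh (U.h_mem j) α) hp.out
    (Subtype.ext (by
      change ((p : Bh (U.h_mem j) α) : Q) = 0
      simp)) D (fun i => ⟨tbar α i, htmem i⟩)
    (fun i => Subtype.ext (by
      change Dbar α i (tbar α i) = 1
      rw [Dbar_t T, if_pos rfl]))
    (fun i k hik => Subtype.ext (by
      change Dbar α i (tbar α k) = 0
      rw [Dbar_t T, if_neg hik]))
    (fun i k b => Subtype.ext (Dbar_comm α i k b))
    (fun i b => Subtype.ext (by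
      rw [restr_iterate, Dbar_p]; rfl))
    w
    (fun i k => Subtype.ext (by
      change Dbar α i (Dbar α k g / g) = Dbar α k (Dbar α i g / g)
      exact dlog_comm _ _ (Dbar_comm α i k) g))
    (fun i => Subtype.ext (by
      change (((D i)^[p - 1] (w i) : Bh (U.h_mem j) α) : Q) + (Dbar α i g / g) ^ p = 0
      rw [restr_iterate]
      change (Dbar α i)^[p - 1] (Dbar α i g / g) + (Dbar α i g / g) ^ p = 0
      rw [Cartier.dlog p (Dbar α i) (Dbar_p α i) g hg0]
      ring)) 𝔮 h𝔮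
  have hsQ : ∀ i, Dbar α i (s : Q) = Dbar α i g / g * s := fun i => congrArg Subtype.val (hs i)
  have hs0 : (s : Q) ≠ 0 := by
    intro h0
    apply hs𝔮
    have : s = 0 := Subtype.ext h0
    rw [this]; exact 𝔮.zero_mem
  have hsQh : Qh S 0 (s : Q) := qh_of_Rh T (U.h_mem j) hj s.2
  -- `g / s` is a constant
  have hc1 : ∀ i : Jdx S α, E S α i.1.1 (g / s) = 0 := by
    intro i
    have h1 : Dbar α i (g / s) = 0 := div_const _ hg0 hs0 (hsQ i)
    rw [Dbar_apply] at h1
    exact (mul_eq_zero.1 h1).resolve_left (zpow_ne_zero _ hxne)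
  have hc2 : E S α (Sum.inr α) (g / s) = 0 := by
    have h1 := euler_apply T α (hgQ.div hsQh (n := 0) (by ring))
    rw [Int.cast_zero, zero_mul, Finset.sum_eq_single α] at h1
    · exact (mul_eq_zero.1 h1).resolve_left hxne
    · intro k _ hk
      rw [hc1 ⟨⟨Sum.inr k, fun l => by simp⟩, by simpa using hk⟩, mul_zero]
    · intro h; exact absurd (mem_univ _) h
  obtain ⟨b, hb⟩ := Cartier.const (chartFrame S α) p (g / s) (fun i => by
    by_cases hi : i.1 = Sum.inr α
    · change E S α i.1 (g / s) = 0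
      rw [hi]; exact hc2
    · exact hc1 ⟨i, hi⟩)
  refine ⟨s, hs𝔮, b, qh_root T α hp.out.ne_zero (by rw [hb]; exact hgQ.div hsQh (by ring)), ?_⟩
  rw [hb, hg]
  have ha := A.a_ne j
  rw [zpow_neg]
  field_simp

include T in
/-- **The main abstract theorem.** -/
theorem exists_main [Nonempty X] [Fact p.Prime] [CharP K p] [IsSepClosed K] (ρ : Q →+ K)
    (hρ : ∀ e x, ρ (T.T e x) = T.F.D e (ρ x)) (hρι : ∀ c, ρ (T.ι c) = c) (hA : ∀ i, Qh S 0 (A.a i)) :
    ∃ (e : ℤ) (f : Q), f ≠ 0 ∧ Qh S e f ∧ ∀ (α : X) (j : ιc), U.h j ≠ 0 → ∀ 𝔮 : Ideal (Bh (U.h_mem j) α), 𝔮 ≠ ⊤ →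
      ∃ s : Bh (U.h_mem j) α, s ∉ 𝔮 ∧ ∃ b : Q, Qh S 0 b ∧ f = (S.z (Sum.inr α)) ^ e * A.a j * s * b ^ p := by
  have : CharP Q p := charP_of_injective_ringHom T.ι.injective p
  obtain ⟨η, hη, hcl⟩ := exists_closed A T ρ hρ hρι
  obtain ⟨η', hη', hcl', hfix⟩ := exists_fixed A T hη hcl
  obtain ⟨e, f, hf0, hfe, hf⟩ := exists_dlogForm T A hA hη' hcl' hfix
  exact ⟨e, f, hf0, hfe, fun α j hj 𝔮 h𝔮 => exists_local_root T A hA hη' hf0 hfe hf α j hj 𝔮 h𝔮⟩

end Groth.Agent.Lefpen.H725.Local
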