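import Groth.Agent.Lefpen.H61.T4Phi
import Groth.Agent.Lefpen.H725.Local

/-!
# The dictionary between chart functions and the abstract setting
-/

set_option autoImplicit false
set_option linter.unusedSectionVars false
universe u
open CategoryTheory CategoryTheory.Limits AlgebraicGeometry TopologicalSpace Opposite MvPolynomial
open LefPen

namespace Groth.Agent.Lefpen.H725.Dict

open Groth.Agent.Lefpen.H718.Reg Groth.Agent.Lefpen.H718.ConeCM Groth.Agent.Lefpen.H718.Grade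
open Groth.Agent.Lefpen.H718.Chart Groth.Agent.Lefpen.H725.CocDef Groth.Agent.Lefpen.H61.T4Phi
open Groth.Agent.Lefpen.H121.ChartLift Groth.Agent.Fdesc.LocGen
open Groth.Agent.Lefpen.H725.Core Groth.Agent.Lefpen.H725.LocReg Groth.Agent.Lefpen.H725.LogForm
open Groth.Agent.Lefpen.H725.Arith Groth.Agent.Lefpen.H725.Dlog Groth.Agent.Lefpen.H725.Local

variable {K : Type u} [Field K] {N d : ℕ} {a : Fin d → ℕ} (G : ∀ j : Fin d, Form N K (a j)) [IsIntegral (Y G)]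
  (hdom : IsDomain (A (eqn G))) (hx : ∀ i, mk (eqn G) (X i) ≠ 0)
  (Q : Type u) [Field Q] [Algebra (A (eqn G)) Q] [IsFractionRing (A (eqn G)) Q]
  {C : Type} [Fintype C] [DecidableEq C] {p : ℕ}

/-- The data relating the geometry of `Y G` and the abstract setting. -/
structure Link where
  mkLink ::
  /-- the abstract setting -/
  S : Setup Q (Fin (N + 1)) C (Fin d)
  /-- the arithmetic data -/
  T : AData S K p
  hz : ∀ i, S.z (Sum.inr i) = xx G Q i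
  hR : ∀ (m : ℤ) (x : Q), x ∈ S.R ∅ m ↔ (x = 0 ∨ ∃ D : ℕ, (D : ℤ) = m ∧ ∃ P : MvPolynomial (Fin (N + 1)) K,
        P.IsHomogeneous D ∧ x = vv G Q P)
  /-- the embedding of the function field -/
  Φ : (Y G).functionField →+* Q
  hΦ : ∀ α (P : MvPolynomial (Fin N) K), Φ (ff (ychart G α) (generic_mem G hdom hx α) (toY G α P)) = evx G Q α P
  hrange : ∀ y : Q, y ∈ Set.range Φ ↔ ∃ (D : ℕ) (P R : MvPolynomial (Fin (N + 1)) K), P.IsHomogeneous D ∧
      R.IsHomogeneous D ∧ mk (eqn G) R ≠ 0 ∧ y = vv G Q P / vv G Q R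

variable {G hdom hx Q} (Λ : Link (C := C) (p := p) G hdom hx Q)

namespace Link

theorem form_mem {D : ℕ} {P : MvPolynomial (Fin (N + 1)) K} (hP : P.IsHomogeneous D) : vv G Q P ∈ Λ.S.R ∅ (D : ℤ) :=
  (Λ.hR _ _).2 (Or.inr ⟨D, rfl, P, hP, rfl⟩)

/-- Every function on a chart is a quotient `F / T_α ^ D`. -/
theorem exists_fn (α : Fin (N + 1)) (s : Γ(Y G, ychart G α)) : ∃ (D : ℕ) (P : MvPolynomial (Fin (N + 1)) K),
    P.IsHomogeneous D ∧ fn G α P = s := by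
  obtain ⟨q, rfl⟩ := toY_surjective G α s
  obtain ⟨M, hM⟩ := exists_homogenization α q
  obtain ⟨F, hF, rfl⟩ := hM M le_rfl
  exact ⟨M, F, hF, rfl⟩

theorem phi_fn' (α : Fin (N + 1)) {D : ℕ} {P : MvPolynomial (Fin (N + 1)) K} (hP : P.IsHomogeneous D) :
    Λ.Φ (ff (ychart G α) (generic_mem G hdom hx α) (fn G α P)) = vv G Q P / xx G Q α ^ D :=
  phi_fn G hdom hx Q Λ.Φ Λ.hΦ α hP

theorem phi_mem (α : Fin (N + 1)) (s : Γ(Y G, ychart G α)) :
    Λ.Φ (ff (ychart G α) (generic_mem G hdom hx α) s) ∈ Λ.S.R {α} 0 := by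
  obtain ⟨D, P, hP, rfl⟩ := exists_fn α s
  rw [Λ.phi_fn' α hP, Λ.T.mem_R]
  refine ⟨D, ?_⟩
  rw [Finset.prod_singleton, Λ.hz, mul_div_cancel₀ _ (pow_ne_zero _ (xx_ne_zero G hx Q α)), Finset.card_singleton]
  simpa using Λ.form_mem hP

theorem exists_of_mem (α : Fin (N + 1)) {y : Q} (hy : y ∈ Λ.S.R {α} 0) :
    ∃ s : Γ(Y G, ychart G α), Λ.Φ (ff (ychart G α) (generic_mem G hdom hx α) s) = y := by
  obtain ⟨n, hn⟩ := (Λ.T.mem_R _ _ _).1 hy
  rw [Finset.prod_singleton, Λ.hz, Finset.card_singleton, Λ.hR] at hn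
  have hxx := xx_ne_zero G hx Q α
  rcases hn with h0 | ⟨D, hD, P, hP, hyP⟩
  · rcases mul_eq_zero.1 h0 with h0 | h0
    · exact absurd h0 (pow_ne_zero _ hxx)
    · exact ⟨0, by rw [h0, map_zero, map_zero]⟩
  · have hDn : D = n := by
      have : (D : ℤ) = n := by rw [hD]; push_cast; ring
      exact_mod_cast this
    subst hDn
    refine ⟨fn G α P, ?_⟩
    rw [Λ.phi_fn' α hP, ← hyP, mul_div_cancel_left₀ _ (pow_ne_zero _ hxx)]

theorem qh_phi (u : (Y G).functionField) : Qh Λ.S 0 (Λ.Φ u) := by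
  obtain ⟨D, P, R, hP, hR, hR0, h⟩ := (Λ.hrange _).1 ⟨u, rfl⟩
  have h0 : vv G Q R ≠ 0 := by rw [Ne, vv_eq_zero_iff]; exact hR0
  refine ⟨D, vv G Q R, Λ.form_mem hR, h0, ?_⟩
  rw [h, mul_div_cancel₀ _ h0, zero_add]
  exact Λ.form_mem hP

theorem exists_of_qh {y : Q} (hy : Qh Λ.S 0 y) : ∃ u : (Y G).functionField, Λ.Φ u = y := by
  obtain ⟨j, s, hs, hs0, hsy⟩ := hy
  rw [zero_add, Λ.hR] at hsy
  rw [Λ.hR] at hs
  rcases hsy with h0 | ⟨D, hD, P, hP, hyP⟩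
  · rcases mul_eq_zero.1 h0 with h0 | h0
    · exact absurd h0 hs0
    · exact ⟨0, by rw [h0, map_zero]⟩
  · rcases hs with h0 | ⟨D', hD', R, hR, hsR⟩
    · exact absurd h0 hs0
    · have hDD : D' = D := by exact_mod_cast hD'.trans hD.symm
      subst hDD
      have h1 : y = vv G Q P / vv G Q R := by
        rw [← hyP, ← hsR, mul_div_cancel_left₀ _ hs0]
      obtain ⟨u, hu⟩ := (Λ.hrange y).2 ⟨D', P, R, hP, hR, by
        rw [Ne, ← vv_eq_zero_iff G Q, ← hsR]; exact hs0, h1⟩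
      exact ⟨u, hu⟩

end Link

end Groth.Agent.Lefpen.H725.Dict
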