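import Groth.Agent.Lefpen.H725.Fix

/-!
# A homogeneous element with the given logarithmic derivative

* `exists_dlog'`: variant of `Cartier.exists_dlog` with a stable set;
* `Qh S m`: homogeneous fractions of degree `m`;
* `exists_dlogForm`: there is a homogeneous `f ≠ 0` with `D f = η D * f` for all `D`.
-/

set_option autoImplicit false
universe u

open Finset

namespace Groth.Agent.Lefpen.H725.Dlog

open Groth.Agent.Lefpen.H725.Core Groth.Agent.Lefpen.H725.LocReg Groth.Agent.Lefpen.H725.LogForm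
open Groth.Agent.Lefpen.H725.Arith Groth.Agent.Lefpen.H725.Curv Groth.Agent.Lefpen.H725.Frame
open Groth.Agent.Lefpen.H411 Groth.Agent.Ega41 Groth.Agent.Lefpen.H725.Fix

/-- A closed form fixed by the Cartier operator is `dlog f`, with `f` in a stable set. -/
theorem exists_dlog' {Q : Type*} [Field Q] {ι : Type*} [DecidableEq ι] [Fintype ι] (F : Frame Q ι) (p : ℕ)
    [Fact p.Prime] [CharP Q p] (a : ι → Q)
    (h : ∀ i j, F.D i (a j) = F.D j (a i)) (hC : ∀ i, (F.D i)^[p - 1] (a i) = - (a i) ^ p)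
    (W : Set Q) (h1 : (1 : Q) ∈ W) (hW : ∀ i x, x ∈ W → F.D i x - a i * x ∈ W) :
    ∃ f : Q, f ≠ 0 ∧ f ∈ W ∧ ∀ i, F.D i f = a i * f := by
  classical
  have hp : p.Prime := Fact.out
  let T : ι → Module.End ℤ Q := fun i => (F.D i : Q →ₗ[ℤ] Q) + LinearMap.mulLeft ℤ (- a i)
  have hT : ∀ i x, T i x = F.D i x + (- a i) * x := fun i x => rfl
  have hTc : ∀ i j x, T i (T j x) = T j (T i x) := by
    intro i j x
    simp only [hT, map_add, Derivation.leibniz, map_neg, smul_eq_mul, Cartier.comm F i j x, h i j]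
    ring
  have hneg : ∀ i, (F.D i)^[p - 1] (- a i) = - (F.D i)^[p - 1] (a i) := by
    intro i
    have := NagIter.iterate_smul (R := ℤ) (F.D i) (p - 1) (-1) (a i)
    rw [neg_one_smul, neg_one_smul] at this
    exact this
  have hnegp : ∀ x : Q, (- x) ^ p = - x ^ p := by
    intro x
    have : ExpChar Q p := ExpChar.prime hp
    have := map_neg (frobenius Q p) x
    simpa [frobenius_def] using this
  have hTp : ∀ i x, (T i ^ p) x = 0 := by
    intro i x
    have h1 := Jacobson.jacobson (F.D i) (- a i) p x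
    rw [Cartier.iter_p, hneg, hC, hnegp, zero_add] at h1
    have h2 : ∀ n (x : Q), (T i ^ n) x = (fun y => F.D i y + (- a i) * y)^[n] x := by
      intro n
      induction n with
      | zero => intro x; rfl
      | succ n ih => intro x; rw [pow_succ, Module.End.mul_apply, ih, Function.iterate_succ_apply]; rfl
    rw [h2, h1]
    ring
  have hTcn : ∀ i j n x, T i ((T j ^ n) x) = (T j ^ n) (T i x) := by
    intro i j n
    induction n with
    | zero => intro x; rfl
    | succ n ih => intro x; rw [pow_succ, Module.End.mul_apply, Module.End.mul_apply, ih, hTc]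
  have hWn : ∀ i n x, x ∈ W → (T i ^ n) x ∈ W := by
    intro i n
    induction n with
    | zero => intro x hx; exact hx
    | succ n ih =>
      intro x hx
      rw [pow_succ, Module.End.mul_apply]
      refine ih _ ?_
      have := hW i x hx
      rwa [sub_eq_add_neg, ← neg_mul] at this
  have key : ∀ S : Finset ι, ∃ f : Q, f ≠ 0 ∧ f ∈ W ∧ ∀ i ∈ S, T i f = 0 := by
    intro S
    induction S using Finset.induction_on with
    | empty => exact ⟨1, one_ne_zero, h1, by simp⟩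
    | insert j S hj ih =>
      obtain ⟨f, hf, hfW, hfS⟩ := ih
      have hex : ∃ n, (T j ^ n) f = 0 := ⟨p, hTp j f⟩
      obtain ⟨m, hm⟩ := Nat.exists_eq_succ_of_ne_zero (n := Nat.find hex) (by
        intro h0
        have := Nat.find_spec hex
        rw [h0, pow_zero] at this
        exact hf this)
      refine ⟨(T j ^ m) f, Nat.find_min hex (by omega), hWn j m f hfW, ?_⟩
      intro i hi
      rcases Finset.mem_insert.1 hi with rfl | hi
      · rw [← Module.End.mul_apply, ← pow_succ', ← Nat.succ_eq_add_one, ← hm]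
        exact Nat.find_spec hex
      · rw [hTcn, hfS i hi, map_zero]
  obtain ⟨f, hf, hfW, hfS⟩ := key Finset.univ
  refine ⟨f, hf, hfW, fun i => ?_⟩
  have := hfS i (Finset.mem_univ i)
  rw [hT, neg_mul, ← sub_eq_add_neg, sub_eq_zero] at this
  exact this

variable {Q : Type u} [Field Q] {X C L : Type} [Fintype X] [DecidableEq X]
    [Fintype C] [DecidableEq C] [Fintype L] [DecidableEq L] {S : Setup Q X C L}

/-- Homogeneous fractions of degree `m`. -/
def Qh (S : Setup Q X C L) (m : ℤ) (x : Q) : Prop := ∃ (j : ℤ) (s : Q), s ∈ S.R ∅ j ∧ s ≠ 0 ∧ s * x ∈ S.R ∅ (m + j)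

theorem Qh.mul {m m' n : ℤ} {x y : Q} (hx : Qh S m x) (hy : Qh S m' y) (h : n = m + m') : Qh S n (x * y) := by
  obtain ⟨j, s, hs, hs0, hsx⟩ := hx
  obtain ⟨j', s', hs', hs0', hsy⟩ := hy
  refine ⟨j + j', s * s', S.mul_mem hs hs', mul_ne_zero hs0 hs0', ?_⟩
  have h1 : s * s' * (x * y) = (s * x) * (s' * y) := by ring
  rw [h1]
  exact mul_mem' S hsx hsy (by rw [h]; ring)

theorem Qh.inv {m n : ℤ} {x : Q} (hx : Qh S m x) (hn : n = - m) : Qh S n x⁻¹ := by
  obtain ⟨j, s, hs, hs0, hsx⟩ := hx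
  by_cases hx0 : x = 0
  · subst hx0
    exact ⟨j, s, hs, hs0, by rw [inv_zero, mul_zero]; exact AddSubgroup.zero_mem _⟩
  · refine ⟨m + j, s * x, hsx, mul_ne_zero hs0 hx0, ?_⟩
    rw [mul_assoc, mul_inv_cancel₀ hx0, mul_one, hn]
    convert hs using 1
    ring_nf

theorem Qh.div {m m' n : ℤ} {x y : Q} (hx : Qh S m x) (hy : Qh S m' y) (h : n = m - m') : Qh S n (x / y) := by
  rw [div_eq_mul_inv]
  exact hx.mul (hy.inv rfl) (by rw [h]; ring)

theorem Qh.add {m : ℤ} {x y : Q} (hx : Qh S m x) (hy : Qh S m y) : Qh S m (x + y) := by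
  obtain ⟨j, s, hs, hs0, hsx⟩ := hx
  obtain ⟨j', s', hs', hs0', hsy⟩ := hy
  refine ⟨j + j', s * s', S.mul_mem hs hs', mul_ne_zero hs0 hs0', ?_⟩
  have h1 : s * s' * (x + y) = s' * (s * x) + s * (s' * y) := by ring
  rw [h1]
  exact AddSubgroup.add_mem _ (mul_mem' S hs' hsx (by ring)) (mul_mem' S hs hsy (by ring))

theorem Qh.neg {m : ℤ} {x : Q} (hx : Qh S m x) : Qh S m (-x) := by
  obtain ⟨j, s, hs, hs0, hsx⟩ := hx
  exact ⟨j, s, hs, hs0, by rw [mul_neg]; exact AddSubgroup.neg_mem _ hsx⟩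

theorem Qh.sub {m : ℤ} {x y : Q} (hx : Qh S m x) (hy : Qh S m y) : Qh S m (x - y) := by
  rw [sub_eq_add_neg]; exact hx.add hy.neg

theorem qh_zero (m : ℤ) : Qh S m 0 := ⟨0, 1, S.one_mem _, one_ne_zero, by
  rw [mul_zero]; exact AddSubgroup.zero_mem _⟩

theorem qh_one : Qh S 0 1 := ⟨0, 1, S.one_mem _, one_ne_zero, by
  rw [mul_one, add_zero]; exact S.one_mem _⟩

theorem qh_pow {m : ℤ} {x : Q} (hx : Qh S m x) (n : ℕ) : Qh S (n * m) (x ^ n) := by
  induction n with
  | zero => simpa using qh_one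
  | succ n ih => rw [pow_succ]; exact ih.mul hx (by push_cast; ring)

theorem qh_zpow {m : ℤ} {x : Q} (hx : Qh S m x) (n : ℤ) : Qh S (n * m) (x ^ n) := by
  obtain ⟨n, rfl | rfl⟩ := n.eq_nat_or_neg
  · rw [zpow_natCast]; exact qh_pow hx n
  · rw [zpow_neg, zpow_natCast]
    exact (qh_pow hx n).inv (by ring)

variable {K : Type u} [Field K] {p : ℕ} (T : AData S K p)

include T in
theorem qh_of_mem {J : Finset X} {m : ℤ} {x : Q} (hx : x ∈ S.R J m) : Qh S m x := by
  obtain ⟨n, hn⟩ := (T.mem_R J m x).1 hx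
  refine ⟨n * J.card, (∏ i ∈ J, S.z (Sum.inr i)) ^ n, ?_, ?_, hn⟩
  · have h1 : ∀ J : Finset X, (∏ i ∈ J, S.z (Sum.inr i)) ∈ S.R ∅ (J.card : ℤ) := by
      intro J
      induction J using Finset.induction_on with
      | empty => simpa using S.one_mem ∅
      | insert i J hi ih =>
        rw [Finset.prod_insert hi, Finset.card_insert_of_notMem hi]
        have := T.z_mem (Sum.inr i) ∅
        rw [T.dg_inr] at this
        exact mul_mem' S this ih (by push_cast; ring)
    exact pow_mem S (h1 J) n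
  · exact pow_ne_zero _ (Finset.prod_ne_zero_iff.2 fun i _ => T.x_ne i)

include T in
theorem qh_of_Rh {h : Q} {dh : ℤ} (hh : h ∈ S.R ∅ dh) (h0 : h ≠ 0) {J : Finset X} {m : ℤ} {x : Q}
    (hx : x ∈ Rh S hh J m) : Qh S m x := by
  obtain ⟨n, hn⟩ := hx
  have h1 := qh_of_mem T hn
  have h2 := qh_pow (qh_of_mem T hh) n
  have h3 : x = h ^ n * x / h ^ n := by
    rw [mul_div_assoc, mul_comm, div_mul_cancel₀ x (pow_ne_zero n h0)]
  rw [h3]
  exact h1.div h2 (by ring)

include T in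
/-- `E α b` maps homogeneous fractions to homogeneous fractions. -/
theorem qh_E (α : X) (b : C ⊕ X) {m n : ℤ} {x : Q} (hx : Qh S m x) (hn : n = - S.dg b + m) :
    Qh S n (E S α b x) := by
  obtain ⟨j, s, hs, hs0, hsx⟩ := hx
  have h1 := qh_of_mem T (S.der_mem (E S α b) {α} (- S.dg b) (E_mem S α b) _ _ (S.mono _ (empty_subset _) hsx))
  have h2 := qh_of_mem T (S.der_mem (E S α b) {α} (- S.dg b) (E_mem S α b) _ _ (S.mono _ (empty_subset _) hs))
  have h3 : E S α b x = (E S α b (s * x) - x * E S α b s) / s := by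
    rw [Derivation.leibniz]
    simp only [smul_eq_mul]
    field_simp
    ring
  rw [h3]
  have hx' : Qh S m x := ⟨j, s, hs, hs0, hsx⟩
  exact (h1.sub (hx'.mul h2 (by ring))).div (qh_of_mem T hs) (by rw [hn]; ring)

variable {ιc : Type} [Fintype ιc] {U : Cov S ιc} (A : UData U)

theorem exists_h_ne [Nonempty X] (U : Cov S ιc) : ∃ j, U.h j ≠ 0 := by
  obtain ⟨α⟩ := ‹Nonempty X›
  obtain ⟨r, -, hsum⟩ := U.cov α
  by_contra hno
  push Not at hno
  simp [hno] at hsum

include T in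
theorem qh_eta [Nonempty X] (hA : ∀ i, Qh S 0 (A.a i)) {η : Derivation ℤ Q Q →ₗ[Q] Q} (hη : LogReg A η)
    (α : X) (b : C ⊕ X) : Qh S (- S.dg b) (η (E S α b)) := by
  obtain ⟨j, hj⟩ := exists_h_ne U
  have h1 : η (E S α b) = (η - dlogForm (A.a j)) (E S α b) + E S α b (A.a j) / A.a j := by
    rw [LinearMap.sub_apply, dlogForm_apply]; ring
  rw [h1]
  exact (qh_of_Rh T (U.h_mem j) hj (hη α j b)).add ((qh_E T α b (hA j) rfl).div (hA j) (by ring))

include T in
/-- **A homogeneous element with the given logarithmic derivative.** -/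
theorem exists_dlogForm [Nonempty X] [Fact p.Prime] [CharP Q p] (hA : ∀ i, Qh S 0 (A.a i))
    {η : Derivation ℤ Q Q →ₗ[Q] Q} (hη : LogReg A η) (hcl : ∀ D D', curv η D D' = 0)
    (hfix : ∀ (α : X) (i : Idx S α), (E S α i.1)^[p - 1] (η (E S α i.1)) = - (η (E S α i.1)) ^ p) :
    ∃ (e : ℤ) (f : Q), f ≠ 0 ∧ Qh S e f ∧ ∀ D, D f = η D * f := by
  obtain ⟨α⟩ := ‹Nonempty X›
  obtain ⟨f, hf0, ⟨e, hfe⟩, hf⟩ := exists_dlog' (chartFrame S α) p (fun i => η ((chartFrame S α).D i))
    (closed_frame hcl α) (hfix α) {x | ∃ e, Qh S e x} ⟨0, qh_one⟩ (by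
      rintro i x ⟨e, he⟩
      refine ⟨- S.dg i.1 + e, (qh_E T α i.1 he rfl).sub ?_⟩
      have : Nonempty X := ⟨α⟩
      exact (qh_eta T A hA hη α i.1).mul he rfl)
  refine ⟨e, f, hf0, hfe, fun D => ?_⟩
  rw [Cartier.expand_apply (chartFrame S α) D f]
  have h1 : η D = ∑ i, D ((chartFrame S α).z i) * η ((chartFrame S α).D i) := by
    conv_lhs => rw [Cartier.expand (chartFrame S α) D, map_sum]
    exact Finset.sum_congr rfl fun i _ => by rw [map_smul, smul_eq_mul]
  rw [h1, Finset.sum_mul]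
  refine Finset.sum_congr rfl fun i _ => ?_
  rw [hf i, mul_assoc]

end Groth.Agent.Lefpen.H725.Dlog
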