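import Groth.Agent.Lefpen.H725.Curv
import Groth.Agent.Lefpen.H411.Cartier
import Mathlib.FieldTheory.IsSepClosed

/-!
# The absolute logarithmic form can be chosen fixed by the Cartier operator
-/

set_option autoImplicit false
universe u

open Finset

namespace Groth.Agent.Lefpen.H725.Fix

open Groth.Agent.Lefpen.H725.Core Groth.Agent.Lefpen.H725.LocReg Groth.Agent.Lefpen.H725.LogForm
open Groth.Agent.Lefpen.H725.Arith Groth.Agent.Lefpen.H725.Curv Groth.Agent.Lefpen.H725.Frame
open Groth.Agent.Lefpen.H411 Groth.Agent.Ega41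

variable {Q : Type u} [Field Q] {X C L : Type} [Fintype X] [DecidableEq X]
    [Fintype C] [DecidableEq C] [Fintype L] [DecidableEq L] (S : Setup Q X C L)

/-- The coordinates of the chart `α`. -/
def Idx (α : X) : Type := {a : C ⊕ X // ∀ l, a ≠ Sum.inl (S.pr l α)}

noncomputable instance (α : X) : Fintype (Idx S α) := by
  classical
  unfold Idx
  infer_instance

noncomputable instance (α : X) : DecidableEq (Idx S α) := Classical.decEq _

theorem E_pr (α : X) (l : L) : E S α (Sum.inl (S.pr l α)) = 0 := by
  refine ext' S fun b => ?_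
  rw [E_apply, Derivation.zero_apply]
  unfold vecE
  have h1 : ∀ l', (if b = Sum.inl (S.pr l' α) then S.g l' (Sum.inl (S.pr l α)) * S.w l' α else 0) =
      if l' = l then (if b = Sum.inl (S.pr l α) then 1 else 0) else 0 := by
    intro l'
    by_cases h : l' = l
    · subst h; rw [S.g_w, if_pos rfl]
    · rw [S.g_cell l' _ (by rw [S.cell_pr]; exact h), zero_mul, if_neg h]
      simp
  simp only [h1]
  rw [Finset.sum_ite_eq', if_pos (mem_univ _), sub_self]

theorem pr_injective (α : X) : Function.Injective (fun l => S.pr l α) := fun l l' h => by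
  have := congrArg S.cell h
  simpa [S.cell_pr] using this

/-- The frame of the chart `α`. -/
noncomputable def chartFrame (α : X) : Frame Q (Idx S α) where
  z i := S.z i.1
  D i := E S α i.1
  dual i j := by
    rw [E_apply]
    unfold vecE
    rw [Finset.sum_eq_zero fun l _ => if_neg (j.2 l), sub_zero]
    by_cases h : i = j
    · subst h; rw [if_pos rfl, if_pos rfl]
    · rw [if_neg h, if_neg (fun h' => h (Subtype.ext h'.symm))]
  sep D hD := by
    have key : ∀ a : C ⊕ X, (∀ l, a ≠ Sum.inl (S.pr l α)) → D (S.z a) = 0 := fun a ha => hD ⟨a, ha⟩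
    refine S.ext D fun a => ?_
    by_cases ha : ∀ l, a ≠ Sum.inl (S.pr l α)
    · exact key a ha
    · push Not at ha
      obtain ⟨l, rfl⟩ := ha
      have h1 := S.tangent D l
      rw [Finset.sum_eq_single (Sum.inl (S.pr l α))] at h1
      · rcases mul_eq_zero.1 h1 with h2 | h2
        · have := S.g_w l α
          rw [h2, zero_mul] at this
          exact absurd this zero_ne_one
        · exact h2
      · intro b _ hb
        by_cases hb' : ∀ l, b ≠ Sum.inl (S.pr l α)
        · rw [key b hb', mul_zero]
        · push Not at hb'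
          obtain ⟨l', rfl⟩ := hb'
          have hl : l ≠ S.cell (S.pr l' α) := by
            rw [S.cell_pr]; rintro rfl; exact hb rfl
          rw [S.g_cell l _ hl, zero_mul]
      · intro h; exact absurd (mem_univ _) h

variable {S} {ιc : Type} [Fintype ιc] {U : Cov S ιc} (A : UData U)
  {p : ℕ} [hp : Fact p.Prime] [CharP Q p]

/-- The Cartier defect of the logarithmic form is regular. -/
theorem defect_mem {η : Derivation ℤ Q Q →ₗ[Q] Q} (hη : LogReg A η) (α : X) (i : Idx S α) :
    (η (E S α i.1)) ^ p + (E S α i.1)^[p - 1] (η (E S α i.1)) ∈ S.R {α} (p * (- S.dg i.1)) := by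
  refine U.glue (α := α) (by simp) fun j => ?_
  set D := E S α i.1 with hD
  set ω := η - dlogForm (A.a j) with hω
  have h1 : η D = ω D + D (A.a j) / A.a j := by
    rw [hω, LinearMap.sub_apply, dlogForm_apply]; ring
  have h2 : ω D ∈ Rh S (U.h_mem j) {α} (- S.dg i.1) := hη α j i.1
  have h3 : D^[p - 1] (D (A.a j) / A.a j) = - (D (A.a j) / A.a j) ^ p :=
    Cartier.dlog_coeff (chartFrame S α) p (A.a j) (A.a_ne j) i
  have h4 : (η D) ^ p + D^[p - 1] (η D) = (ω D) ^ p + D^[p - 1] (ω D) := by
    rw [h1, NagIter.iterate_add, h3, add_pow_char]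
    ring
  rw [h4]
  refine AddSubgroup.add_mem _ (Rh_pow S _ h2 p) ?_
  have h5 := Rh_iter S (U.h_mem j) (E_mem S α i.1) (p - 1) h2
  convert h5 using 1
  have : ((p - 1 : ℕ) : ℤ) = p - 1 := by
    have := hp.out.one_le
    push_cast [this]; ring
  rw [this]
  ring_nf

variable {K : Type u} [Field K] (T : AData S K p)

omit [CharP Q p] in
theorem exists_sol [IsSepClosed K] [CharP K p] (c h : K) : ∃ γ : K, c ^ (p - 1) * γ ^ p - γ + h = 0 := by
  by_cases hc : c = 0
  · subst hc
    refine ⟨h, ?_⟩
    rw [zero_pow (by have := hp.out.two_le; omega)]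
    ring
  · let P : Polynomial K := Polynomial.C (c ^ (p - 1)) * Polynomial.X ^ p - Polynomial.X + Polynomial.C h
    have hdeg : P.natDegree = p := by
      have h1 : (Polynomial.C (c ^ (p - 1)) * Polynomial.X ^ p : Polynomial K).natDegree = p :=
        Polynomial.natDegree_C_mul_X_pow _ _ (pow_ne_zero _ hc)
      have h2 : (- Polynomial.X + Polynomial.C h : Polynomial K).natDegree < p := by
        refine lt_of_le_of_lt (Polynomial.natDegree_add_C.le.trans ?_) hp.out.one_lt
        rw [Polynomial.natDegree_neg, Polynomial.natDegree_X]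
      have h3 : P = Polynomial.C (c ^ (p - 1)) * Polynomial.X ^ p + (- Polynomial.X + Polynomial.C h) := by
        simp only [P]; ring
      rw [h3, Polynomial.natDegree_add_eq_left_of_natDegree_lt (by rw [h1]; exact h2), h1]
    have hsep : P.Separable := by
      rw [Polynomial.separable_def]
      have hd : P.derivative = - 1 := by
        simp only [P, Polynomial.derivative_add, Polynomial.derivative_sub, Polynomial.derivative_C_mul,
          Polynomial.derivative_X_pow, Polynomial.derivative_X, Polynomial.derivative_C]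
        have : (p : K) = 0 := CharP.cast_eq_zero K p
        rw [this]
        simp
      rw [hd]
      exact isCoprime_one_right.neg_right
    obtain ⟨γ, hγ⟩ := IsSepClosed.exists_root P (by
      intro h0
      have := Polynomial.natDegree_eq_of_degree_eq_some h0
      rw [hdeg] at this
      exact hp.out.ne_zero this) hsep
    refine ⟨γ, ?_⟩
    have := hγ
    simpa [P, Polynomial.IsRoot] using this

omit hp [CharP Q p] in
theorem iterate_sum {κ : Type*} (D : Derivation ℤ Q Q) (n : ℕ) (s : Finset κ) (w : κ → Q) :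
    D^[n] (∑ i ∈ s, w i) = ∑ i ∈ s, D^[n] (w i) := by
  classical
  induction s using Finset.induction_on with
  | empty => simp
  | insert a s ha ih => rw [Finset.sum_insert ha, Finset.sum_insert ha, NagIter.iterate_add, ih]

omit hp [CharP Q p] in
theorem closed_frame {η : Derivation ℤ Q Q →ₗ[Q] Q} (hcl : ∀ D D', curv η D D' = 0) (α : X) (i j : Idx S α) :
    (chartFrame S α).D i (η ((chartFrame S α).D j)) = (chartFrame S α).D j (η ((chartFrame S α).D i)) := by
  have h1 := hcl ((chartFrame S α).D i) ((chartFrame S α).D j)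
  have h2 : ⁅(chartFrame S α).D i, (chartFrame S α).D j⁆ = 0 := by
    ext x
    rw [Derivation.commutator_apply, Cartier.comm (chartFrame S α) i j x, sub_self]; rfl
  rw [curv_apply, h2, map_zero, sub_zero, sub_eq_zero] at h1
  exact h1

/-- The form `η - C η`. -/
theorem exists_theta [Nonempty X] {η : Derivation ℤ Q Q →ₗ[Q] Q} (hcl : ∀ D D', curv η D D' = 0) :
    ∃ θ : Derivation ℤ Q Q →ₗ[Q] Q, ∀ (α : X) (i : Idx S α),
      (θ (E S α i.1)) ^ p = (η (E S α i.1)) ^ p + (E S α i.1)^[p - 1] (η (E S α i.1)) := by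
  obtain ⟨α₀⟩ := ‹Nonempty X›
  choose b g hb using fun α => Cartier.decomp (chartFrame S α) p (fun i => η ((chartFrame S α).D i))
    (closed_frame hcl α)
  let bF : Derivation ℤ Q Q →ₗ[Q] Q :=
    { toFun := fun D => ∑ i, D ((chartFrame S α₀).z i) * b α₀ i
      map_add' := fun D D' => by simp only [Derivation.add_apply, add_mul, Finset.sum_add_distrib]
      map_smul' := fun c D => by
        simp only [Derivation.smul_apply, smul_eq_mul, RingHom.id_apply, Finset.mul_sum, mul_assoc] }
  refine ⟨η - bF, fun α i => ?_⟩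
  have h1 : b α i = bF (E S α i.1) :=
    Cartier.change (chartFrame S α₀) (chartFrame S α) p η (b α₀) (g α₀) (hb α₀) (b α) (g α) (hb α) i
  have h2 : (E S α i.1)^[p - 1] (η (E S α i.1)) = - b α i ^ p := by
    have h3 := hb α i
    have h4 := Cartier.coeff (chartFrame S α) p (b α i) (g α) i
    change η (E S α i.1) = _ at h3
    rw [h3]
    exact h4
  rw [LinearMap.sub_apply, ← h1, h2, sub_pow_char]
  ring

include T in
/-- **The logarithmic form can be chosen closed and fixed by the Cartier operator.** -/
theorem exists_fixed [Nonempty X] [IsSepClosed K] [CharP K p] {η : Derivation ℤ Q Q →ₗ[Q] Q}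
    (hη : LogReg A η) (hcl : ∀ D D', curv η D D' = 0) :
    ∃ η' : Derivation ℤ Q Q →ₗ[Q] Q, LogReg A η' ∧ (∀ D D', curv η' D D' = 0) ∧
      ∀ (α : X) (i : Idx S α), (E S α i.1)^[p - 1] (η' (E S α i.1)) = - (η' (E S α i.1)) ^ p := by
  obtain ⟨θ, hθ⟩ := exists_theta (p := p) (S := S) hcl
  have hθmem : ∀ α a, θ (E S α a) ∈ S.R {α} (0 - S.dg a) := by
    intro α a
    by_cases ha : ∀ l, a ≠ Sum.inl (S.pr l α)
    · refine T.root α _ _ ?_
      rw [zero_sub, hθ α ⟨a, ha⟩]
      exact defect_mem A hη α ⟨a, ha⟩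
    · push Not at ha
      obtain ⟨l, rfl⟩ := ha
      rw [E_pr, map_zero]
      exact AddSubgroup.zero_mem _
  obtain ⟨h, hh, hθh⟩ := global_form S θ 0 hθmem
  have hinr : ∀ k, h (Sum.inr k) = 0 := fun k =>
    T.H0neg (0 - 1) _ (by norm_num) fun α => by
      have := hh α (Sum.inr k)
      rwa [T.dg_inr] at this
  have hinl : ∀ e, ∃ c, h (Sum.inl e) = T.ι c := fun e =>
    T.H0zero _ fun α => by
      have := hh α (Sum.inl e)
      rwa [S.dg_inl, sub_zero] at this
  choose κ hκ using hinl
  have hθ' : ∀ D, θ D = ∑ e, D (S.z (Sum.inl e)) * T.ι (κ e) := by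
    intro D
    rw [hθh, Fintype.sum_sum_type]
    simp only [hinr, mul_zero, Finset.sum_const_zero, add_zero, hκ]
  choose γ hγ using fun e => exists_sol (p := p) (T.F.z e) (κ e)
  set β : C → K := fun e => γ e ^ p * T.F.z e ^ (p - 1) with hβ
  have hβ' : ∀ e, β e = γ e - κ e := fun e => by
    have := hγ e
    simp only [hβ]
    linear_combination this
  refine ⟨η + cForm T β, logReg_add A hη _ (cForm_mem T β), fun D D' => ?_, fun α i => ?_⟩
  · rw [curv_add, hcl, zero_add, curv_cForm]
    refine Finset.sum_eq_zero fun e _ => Finset.sum_eq_zero fun e' _ => ?_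
    have h1 : T.F.D e (β e') - T.F.D e' (β e) = 0 := by
      by_cases hee : e = e'
      · subst hee; rw [sub_self]
      · have h2 : ∀ e₁ e₂ : C, e₁ ≠ e₂ → T.F.D e₁ (β e₂) = 0 := by
          intro e₁ e₂ h12
          simp only [hβ]
          rw [Derivation.leibniz, Cartier.pow_const p, Derivation.leibniz_pow, T.F.dual, if_neg h12]
          simp
        rw [h2 e e' hee, h2 e' e (Ne.symm hee), sub_zero]
    rw [h1, map_zero, mul_zero, mul_zero]
  · set D := E S α i.1 with hD
    have hDp : ∀ x, D^[p] x = 0 := Cartier.iter_p (chartFrame S α) p i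
    have h1 : D^[p - 1] (η D) = (θ D) ^ p - (η D) ^ p := by
      rw [hθ α i]; ring
    have h2 : cForm T β D = ∑ e, (T.ι (γ e)) ^ p * (S.z (Sum.inl e) ^ (p - 1) * D (S.z (Sum.inl e))) := by
      rw [cForm_apply]
      refine Finset.sum_congr rfl fun e _ => ?_
      simp only [hβ, map_mul, map_pow, T.F_z]
      ring
    have h3 : D^[p - 1] (cForm T β D) = - ∑ e, (T.ι (γ e) * D (S.z (Sum.inl e))) ^ p := by
      rw [h2, iterate_sum, ← Finset.sum_neg_distrib]
      refine Finset.sum_congr rfl fun e _ => ?_
      rw [Cartier.iterate_const_mul D _ (Cartier.pow_const p D _), Cartier.hochschild p D hDp]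
      ring
    have h4 : cForm T β D = (∑ e, T.ι (γ e) * D (S.z (Sum.inl e))) - θ D := by
      rw [cForm_apply, hθ', ← Finset.sum_sub_distrib]
      refine Finset.sum_congr rfl fun e _ => ?_
      rw [hβ', map_sub]
      ring
    have h5 : (cForm T β D) ^ p = (∑ e, (T.ι (γ e) * D (S.z (Sum.inl e))) ^ p) - (θ D) ^ p := by
      rw [h4, sub_pow_char, sum_pow_char]
    rw [LinearMap.add_apply, NagIter.iterate_add, h1, h3, add_pow_char, h5]
    ring

end Groth.Agent.Lefpen.H725.Fix
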