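import Groth.Agent.Lefpen.H725.Core
import Mathlib.RingTheory.Ideal.Maps
import Mathlib.RingTheory.Ideal.Operations
import Mathlib.Algebra.Order.BigOperators.Group.Finset
import Mathlib.Tactic.FieldSimp

/-!
# Local regularity in the abstract setting

* `Rh S hh J m`: the elements `q` with `h ^ n * q ∈ S.R J (m + n * dh)` for some `n`;
* `Cov S ιc`: a finite cover by the loci `h i ≠ 0`;
* `Cov.glue`: gluing.
-/

set_option autoImplicit false
universe u

open Finset

namespace Groth.Agent.Lefpen.H725.LocReg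

open Groth.Agent.Lefpen.H725.Core

variable {Q : Type u} [Field Q] {X C L : Type} [Fintype X] [DecidableEq X]
    [Fintype C] [DecidableEq C] [Fintype L] [DecidableEq L] (S : Setup Q X C L)

theorem pow_mem {J : Finset X} {m : ℤ} {a : Q} (h : a ∈ S.R J m) (n : ℕ) : a ^ n ∈ S.R J (n * m) := by
  induction n with
  | zero => simpa using S.one_mem J
  | succ n ih =>
    rw [pow_succ]
    exact mul_mem' S ih h (by push_cast; ring)

theorem natCast_mem (J : Finset X) (n : ℕ) : (n : Q) ∈ S.R J 0 := by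
  induction n with
  | zero => simp
  | succ n ih => rw [Nat.cast_succ]; exact AddSubgroup.add_mem _ ih (S.one_mem J)

/-- The elements `q` with `h ^ n * q ∈ S.R J (m + n * dh)` for some `n`. -/
def Rh {h : Q} {dh : ℤ} (hh : h ∈ S.R ∅ dh) (J : Finset X) (m : ℤ) : AddSubgroup Q where
  carrier := {q | ∃ n : ℕ, h ^ n * q ∈ S.R J (m + n * dh)}
  zero_mem' := ⟨0, by simp⟩
  add_mem' := by
    rintro a b ⟨n, hn⟩ ⟨n', hn'⟩
    have hJ : h ∈ S.R J dh := S.mono _ (empty_subset _) hh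
    refine ⟨n + n', ?_⟩
    have h1 : h ^ n' * (h ^ n * a) ∈ S.R J (m + (n + n' : ℕ) * dh) :=
      mul_mem' S (pow_mem S hJ n') hn (by push_cast; ring)
    have h2 : h ^ n * (h ^ n' * b) ∈ S.R J (m + (n + n' : ℕ) * dh) :=
      mul_mem' S (pow_mem S hJ n) hn' (by push_cast; ring)
    have h3 : h ^ (n + n') * (a + b) = h ^ n' * (h ^ n * a) + h ^ n * (h ^ n' * b) := by
      rw [pow_add]; ring
    rw [h3]
    exact AddSubgroup.add_mem _ h1 h2
  neg_mem' := by
    rintro a ⟨n, hn⟩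
    exact ⟨n, by rw [mul_neg]; exact AddSubgroup.neg_mem _ hn⟩

variable {h : Q} {dh : ℤ} (hh : h ∈ S.R ∅ dh)

theorem mem_Rh {J : Finset X} {m : ℤ} {q : Q} : q ∈ Rh S hh J m ↔ ∃ n : ℕ, h ^ n * q ∈ S.R J (m + n * dh) := Iff.rfl

include hh in
theorem step {J : Finset X} {m : ℤ} {q : Q} {n : ℕ} (hq : h ^ n * q ∈ S.R J (m + n * dh)) (k : ℕ) :
    h ^ (n + k) * q ∈ S.R J (m + (n + k : ℕ) * dh) := by
  have hJ : h ∈ S.R J dh := S.mono _ (empty_subset _) hh
  rw [pow_add, mul_comm (h ^ n), mul_assoc]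
  exact mul_mem' S (pow_mem S hJ k) hq (by push_cast; ring)

theorem R_le_Rh (J : Finset X) (m : ℤ) : S.R J m ≤ Rh S hh J m := fun q hq => ⟨0, by simpa using hq⟩

theorem Rh_mono {I J : Finset X} (m : ℤ) (hIJ : I ⊆ J) : Rh S hh I m ≤ Rh S hh J m :=
  fun _ ⟨n, hn⟩ => ⟨n, S.mono _ hIJ hn⟩

theorem Rh_mul {J : Finset X} {m m' n : ℤ} {a b : Q} (ha : a ∈ Rh S hh J m) (hb : b ∈ Rh S hh J m')
    (hn : n = m + m') : a * b ∈ Rh S hh J n := by
  obtain ⟨k, hk⟩ := ha
  obtain ⟨k', hk'⟩ := hb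
  refine ⟨k + k', ?_⟩
  have h3 : h ^ (k + k') * (a * b) = (h ^ k * a) * (h ^ k' * b) := by rw [pow_add]; ring
  rw [h3]
  exact mul_mem' S hk hk' (by rw [hn]; push_cast; ring)

theorem Rh_one (J : Finset X) : (1 : Q) ∈ Rh S hh J 0 := R_le_Rh S hh J 0 (S.one_mem J)

theorem Rh_pow {J : Finset X} {m : ℤ} {a : Q} (ha : a ∈ Rh S hh J m) (n : ℕ) : a ^ n ∈ Rh S hh J (n * m) := by
  induction n with
  | zero => simpa using Rh_one S hh J
  | succ n ih => rw [pow_succ]; exact Rh_mul S hh ih ha (by push_cast; ring)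

theorem Rh_der {J : Finset X} {m₀ m : ℤ} {D : Derivation ℤ Q Q} (hD : ∀ a, D (S.z a) ∈ S.R J (m₀ + S.dg a))
    {x : Q} (hx : x ∈ Rh S hh J m) : D x ∈ Rh S hh J (m₀ + m) := by
  obtain ⟨n, hn⟩ := hx
  have hJ : h ∈ S.R J dh := S.mono _ (empty_subset _) hh
  refine ⟨n + 1, ?_⟩
  have h1 : D (h ^ n * x) ∈ S.R J (m₀ + (m + n * dh)) := S.der_mem D J m₀ hD _ _ hn
  have h2 : D h ∈ S.R J (m₀ + dh) := S.der_mem D J m₀ hD _ _ hJ
  have h3 : h ^ (n + 1) * D x = h * D (h ^ n * x) - (n : Q) * ((h ^ n * x) * D h) := by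
    rcases Nat.eq_zero_or_pos n with rfl | hpos
    · simp
    · obtain ⟨k, rfl⟩ : ∃ k, n = k + 1 := ⟨n - 1, by omega⟩
      rw [Derivation.leibniz, Derivation.leibniz_pow]
      simp only [smul_eq_mul, nsmul_eq_mul, Nat.add_sub_cancel]
      ring
  rw [h3]
  refine AddSubgroup.sub_mem _ (mul_mem' S hJ h1 (by push_cast; ring)) ?_
  exact mul_mem' S (natCast_mem S J n) (mul_mem' S hn h2 rfl) (by push_cast; ring)

theorem Rh_iter {J : Finset X} {m₀ m : ℤ} {D : Derivation ℤ Q Q} (hD : ∀ a, D (S.z a) ∈ S.R J (m₀ + S.dg a))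
    (k : ℕ) {x : Q} (hx : x ∈ Rh S hh J m) : D^[k] x ∈ Rh S hh J (k * m₀ + m) := by
  induction k generalizing x m with
  | zero => simpa using hx
  | succ k ih =>
    rw [Function.iterate_succ_apply]
    have := ih (Rh_der S hh hD hx)
    convert this using 1
    push_cast
    ring_nf

/-- A form with locally regular values on the `E α a` is locally regular on regular derivations. -/
theorem form_Rh (θ : Derivation ℤ Q Q →ₗ[Q] Q) (α : X) (J : Finset X) (m₀ : ℤ)
    (hθ : ∀ a, θ (E S α a) ∈ Rh S hh J (m₀ - S.dg a)) (m : ℤ) (D : Derivation ℤ Q Q)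
    (hD : ∀ a, D (S.z a) ∈ Rh S hh J (m + S.dg a)) : θ D ∈ Rh S hh J (m₀ + m) := by
  rw [expand S α D, map_sum]
  refine AddSubgroup.sum_mem _ fun a _ => ?_
  rw [map_smul, smul_eq_mul]
  exact Rh_mul S hh (hD a) (hθ a) (by ring)

/-- The form `dlog x`. -/
def dlogForm (x : Q) : Derivation ℤ Q Q →ₗ[Q] Q where
  toFun D := D x / x
  map_add' D D' := by rw [Derivation.add_apply, add_div]
  map_smul' c D := by rw [Derivation.smul_apply, smul_eq_mul, RingHom.id_apply, mul_div_assoc, smul_eq_mul]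

theorem dlogForm_apply (x : Q) (D : Derivation ℤ Q Q) : dlogForm x D = D x / x := rfl

theorem dlogForm_div {x y : Q} (hx : x ≠ 0) (hy : y ≠ 0) (D : Derivation ℤ Q Q) :
    dlogForm (x / y) D = dlogForm x D - dlogForm y D := by
  rw [dlogForm_apply, dlogForm_apply, dlogForm_apply, Derivation.leibniz_div]
  simp only [smul_eq_mul]
  field_simp

theorem dlogForm_mul {x y : Q} (hx : x ≠ 0) (hy : y ≠ 0) (D : Derivation ℤ Q Q) :
    dlogForm (x * y) D = dlogForm x D + dlogForm y D := by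
  rw [dlogForm_apply, dlogForm_apply, dlogForm_apply, Derivation.leibniz]
  simp only [smul_eq_mul]
  field_simp
  ring

/-- The subring of functions of degree zero. -/
def B0 (J : Finset X) : Subring Q where
  carrier := S.R J 0
  mul_mem' ha hb := mul_mem' S ha hb (by ring)
  one_mem' := S.one_mem J
  add_mem' ha hb := AddSubgroup.add_mem _ ha hb
  zero_mem' := AddSubgroup.zero_mem _
  neg_mem' ha := AddSubgroup.neg_mem _ ha

/-- A finite cover of the cone minus its vertex by the loci `h i ≠ 0`. -/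
structure Cov (ιc : Type) [Fintype ιc] where
  /-- the functions -/
  h : ιc → Q
  /-- their degrees -/
  dh : ιc → ℤ
  h_mem : ∀ i, h i ∈ S.R ∅ (dh i)
  cov : ∀ α, ∃ r : ιc → Q, (∀ i, r i ∈ S.R {α} (- dh i)) ∧ ∑ i, r i * h i = 1

variable {S} {ιc : Type} [Fintype ιc] (U : Cov S ιc)

theorem Cov.cov_pow (α : X) (n : ℕ) : ∃ r : ιc → Q, (∀ i, r i ∈ S.R {α} (- (n * U.dh i))) ∧
    ∑ i, r i * U.h i ^ n = 1 := by
  obtain ⟨r, hr, hsum⟩ := U.cov α
  let u : ιc → B0 S {α} := fun i => ⟨r i * U.h i, mul_mem' S (hr i) (S.mono _ (empty_subset _) (U.h_mem i)) (by ring)⟩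
  have h1 : Ideal.span (Set.range u) = ⊤ := by
    rw [Ideal.eq_top_iff_one]
    have : (1 : B0 S {α}) = ∑ i, u i := by
      apply Subtype.ext
      rw [AddSubmonoidClass.coe_finsetSum]
      exact hsum.symm
    rw [this]
    exact Submodule.sum_mem _ fun i _ => Ideal.subset_span ⟨i, rfl⟩
  have h2 := Ideal.span_pow_eq_top _ h1 n
  have h3 : (1 : B0 S {α}) ∈ Ideal.span ((fun x => x ^ n) '' Set.range u) := by rw [h2]; trivial
  rw [← Set.range_comp] at h3
  obtain ⟨c, hc⟩ := (Ideal.mem_span_range_iff_exists_fun).1 h3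
  refine ⟨fun i => (c i : Q) * r i ^ n, fun i => ?_, ?_⟩
  · exact mul_mem' S (c i).2 (pow_mem S (hr i) n) (by ring)
  · have h4 := congrArg (fun x : B0 S {α} => (x : Q)) hc
    simp only [Function.comp_apply] at h4
    rw [AddSubmonoidClass.coe_finsetSum] at h4
    refine Eq.trans (Finset.sum_congr rfl fun i _ => ?_) h4
    change c i * r i ^ n * U.h i ^ n = (c i : Q) * (r i * U.h i) ^ n
    rw [mul_pow]; ring

/-- Gluing. -/
theorem Cov.glue {α : X} {J : Finset X} (hα : α ∈ J) {m : ℤ} {q : Q} (hq : ∀ i, q ∈ Rh S (U.h_mem i) J m) :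
    q ∈ S.R J m := by
  choose n hn using hq
  let M : ℕ := ∑ i, n i
  have hM : ∀ i, n i ≤ M := fun i => Finset.single_le_sum (f := n) (fun _ _ => Nat.zero_le _) (mem_univ i)
  obtain ⟨r, hr, hsum⟩ := U.cov_pow α M
  have h1 : q = ∑ i, r i * (U.h i ^ M * q) := by
    have h2 := congrArg (fun x => x * q) hsum
    simp only [one_mul, Finset.sum_mul] at h2
    refine h2.symm.trans ?_
    exact Finset.sum_congr rfl fun i _ => by ring
  rw [h1]
  refine AddSubgroup.sum_mem _ fun i _ => ?_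
  have h3 := step S (U.h_mem i) (hn i) (M - n i)
  rw [Nat.add_sub_cancel' (hM i)] at h3
  exact mul_mem' S (S.mono _ (by simpa using hα) (hr i)) h3 (by ring)

end Groth.Agent.Lefpen.H725.LocReg
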