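import Groth.Agent.Lefpen.H725.LocReg

/-!
# The absolute logarithmic form of a divisor

`UData U`: local equations `a i` of a divisor on the cover `U`.
`exists_logReg`: there is a global 1-form which is `dlog (a i)` up to regular forms.
-/

set_option autoImplicit false
universe u

open Finset

namespace Groth.Agent.Lefpen.H725.LogForm

open Groth.Agent.Lefpen.H725.Core Groth.Agent.Lefpen.H725.LocReg

variable {Q : Type u} [Field Q] {X C L : Type} [Fintype X] [DecidableEq X]
    [Fintype C] [DecidableEq C] [Fintype L] [DecidableEq L] {S : Setup Q X C L}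
    {ιc : Type} [Fintype ιc] (U : Cov S ιc)

/-- Local equations of a divisor. -/
structure UData where
  /-- the local equations -/
  a : ιc → Q
  a_ne : ∀ i, a i ≠ 0
  unit : ∀ (α : X) (i j : ιc), ∃ n : ℕ, (U.h i * U.h j) ^ n * (a i / a j) ∈ S.R {α} (n * (U.dh i + U.dh j))

variable {U} (A : UData U)

/-- `η` is `dlog (a j)` up to forms regular near the points of the chart `α` where `h j ≠ 0`. -/
def LogReg (η : Derivation ℤ Q Q →ₗ[Q] Q) : Prop :=
  ∀ α j b, (η - dlogForm (A.a j)) (E S α b) ∈ Rh S (U.h_mem j) {α} (- S.dg b)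

theorem hij_mem (i j : ιc) : U.h i * U.h j ∈ S.R ∅ (U.dh i + U.dh j) :=
  mul_mem' S (U.h_mem i) (U.h_mem j) rfl

theorem unit_mem (α : X) (i j : ιc) : A.a i / A.a j ∈ Rh S (hij_mem (U := U) i j) {α} 0 := by
  obtain ⟨n, hn⟩ := A.unit α i j
  exact ⟨n, by rwa [zero_add]⟩

theorem dlog_mem (α : X) (i j : ιc) (b : C ⊕ X) :
    dlogForm (A.a i / A.a j) (E S α b) ∈ Rh S (hij_mem (U := U) i j) {α} (- S.dg b) := by
  have h1 := Rh_der S (hij_mem (U := U) i j) (E_mem S α b) (unit_mem A α i j)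
  obtain ⟨n, hn⟩ := A.unit α j i
  have h2 : A.a j / A.a i ∈ Rh S (hij_mem (U := U) i j) {α} 0 :=
    ⟨n, by rw [zero_add, mul_comm (U.h i), add_comm (U.dh i)]; exact hn⟩
  rw [dlogForm_apply, div_eq_mul_inv, inv_div]
  exact Rh_mul S _ h1 h2 (by ring)

/-- A uniform exponent. -/
theorem exists_uniform : ∃ M : ℕ, ∀ α i j b, (U.h i * U.h j) ^ M * dlogForm (A.a i / A.a j) (E S α b) ∈
    S.R {α} (- S.dg b + M * (U.dh i + U.dh j)) := by
  choose n hn using fun α i j b => dlog_mem A α i j b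
  let M : ℕ := ∑ α, ∑ i, ∑ j, ∑ b, n α i j b
  have hM : ∀ α i j b, n α i j b ≤ M := fun α i j b =>
    calc n α i j b ≤ ∑ b, n α i j b := Finset.single_le_sum (f := fun b => n α i j b) (fun _ _ => Nat.zero_le _) (mem_univ b)
      _ ≤ ∑ j, ∑ b, n α i j b := Finset.single_le_sum (f := fun j => ∑ b, n α i j b) (fun _ _ => Nat.zero_le _) (mem_univ j)
      _ ≤ ∑ i, ∑ j, ∑ b, n α i j b :=
        Finset.single_le_sum (f := fun i => ∑ j, ∑ b, n α i j b) (fun _ _ => Nat.zero_le _) (mem_univ i)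
      _ ≤ M := Finset.single_le_sum (f := fun α => ∑ i, ∑ j, ∑ b, n α i j b) (fun _ _ => Nat.zero_le _) (mem_univ α)
  refine ⟨M, fun α i j b => ?_⟩
  have h3 := step S (hij_mem (U := U) i j) (hn α i j b) (M - n α i j b)
  rwa [Nat.add_sub_cancel' (hM α i j b)] at h3

theorem exists_local : ∃ η : X → (Derivation ℤ Q Q →ₗ[Q] Q), ∀ α j b,
    (η α - dlogForm (A.a j)) (E S α b) ∈ Rh S (U.h_mem j) {α} (- S.dg b) := by
  obtain ⟨M, hM⟩ := exists_uniform A
  choose r hr hsum using fun α => U.cov_pow α M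
  refine ⟨fun α => ∑ i, (r α i * U.h i ^ M) • dlogForm (A.a i), fun α j b => ?_⟩
  have h1 : ((∑ i, (r α i * U.h i ^ M) • dlogForm (A.a i)) - dlogForm (A.a j)) (E S α b) =
      ∑ i, (r α i * U.h i ^ M) * dlogForm (A.a i / A.a j) (E S α b) := by
    rw [LinearMap.sub_apply, LinearMap.sum_apply]
    have h2 : dlogForm (A.a j) (E S α b) = ∑ i, (r α i * U.h i ^ M) * dlogForm (A.a j) (E S α b) := by
      rw [← Finset.sum_mul, hsum, one_mul]
    rw [h2, ← Finset.sum_sub_distrib]
    refine Finset.sum_congr rfl fun i _ => ?_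
    rw [LinearMap.smul_apply, smul_eq_mul, dlogForm_div (A.a_ne i) (A.a_ne j)]
    ring
  rw [h1]
  refine AddSubgroup.sum_mem _ fun i _ => ⟨M, ?_⟩
  have h3 : U.h j ^ M * (r α i * U.h i ^ M * dlogForm (A.a i / A.a j) (E S α b)) =
      r α i * ((U.h i * U.h j) ^ M * dlogForm (A.a i / A.a j) (E S α b)) := by
    rw [mul_pow]; ring
  rw [h3]
  exact mul_mem' S (hr α i) (hM α i j b) (by ring)

/-- **Existence of the absolute logarithmic form.** -/
theorem exists_logReg [Nonempty X] : ∃ η, LogReg A η := by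
  obtain ⟨η, hη⟩ := exists_local A
  obtain ⟨η', t, ht, hη'⟩ := exists_global S η (fun α β b => by
    refine U.glue (α := α) (by simp) fun j => ?_
    have h1 : (η α - dlogForm (A.a j)) (E S α b) ∈ Rh S (U.h_mem j) {α, β} (- S.dg b) :=
      Rh_mono S _ _ (by simp) (hη α j b)
    have h2 : (η β - dlogForm (A.a j)) (E S α b) ∈ Rh S (U.h_mem j) {α, β} (0 + - S.dg b) := by
      refine form_Rh S (U.h_mem j) (η β - dlogForm (A.a j)) β {α, β} 0 (fun c => ?_) (- S.dg b) (E S α b)
        (fun c => ?_)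
      · rw [zero_sub]; exact Rh_mono S _ _ (by simp) (hη β j c)
      · exact Rh_mono S _ _ (by simp) (R_le_Rh S _ _ _ (E_mem S α b c))
    rw [zero_add] at h2
    have h3 : (η β - η α) (E S α b) = (η β - dlogForm (A.a j)) (E S α b) - (η α - dlogForm (A.a j)) (E S α b) := by
      simp only [LinearMap.sub_apply]; ring
    rw [h3]
    exact AddSubgroup.sub_mem _ h2 h1)
  refine ⟨η', fun α j b => ?_⟩
  have h1 : (η' - dlogForm (A.a j)) (E S α b) = (η α - dlogForm (A.a j)) (E S α b) -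
      ∑ c, E S α b (S.z c) * t α c := by
    rw [LinearMap.sub_apply, LinearMap.sub_apply, hη' α]; ring
  rw [h1]
  refine AddSubgroup.sub_mem _ (hη α j b) (AddSubgroup.sum_mem _ fun c _ => R_le_Rh S _ _ _ ?_)
  exact mul_mem' S (E_mem S α b c) (ht α c) (by ring)

end Groth.Agent.Lefpen.H725.LogForm
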