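import Groth.Agent.Lefpen.H725.CoverData
import Groth.Agent.Lefpen.H576.Rho

/-!
# The Picard group of a generic complete intersection surface is `p`-divisible modulo `O(1)`
-/

set_option autoImplicit false
set_option linter.unusedSectionVars false
universe u
open CategoryTheory CategoryTheory.Limits AlgebraicGeometry TopologicalSpace Opposite MvPolynomial
open LefPen

namespace Groth.Agent.Lefpen.H725.Pdiv

open Groth.Agent.Lefpen.H718.Reg Groth.Agent.Lefpen.H718.ConeCM Groth.Agent.Lefpen.H718.Grade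
open Groth.Agent.Lefpen.H718.Chart Groth.Agent.Lefpen.H725.CocDef Groth.Agent.Lefpen.H61.T4Phi
open Groth.Agent.Lefpen.H121.ChartLift Groth.Agent.Fdesc.LocGen
open Groth.Agent.Lefpen.H725.Core Groth.Agent.Lefpen.H725.LocReg Groth.Agent.Lefpen.H725.LogForm
open Groth.Agent.Lefpen.H725.Arith Groth.Agent.Lefpen.H725.Dlog Groth.Agent.Lefpen.H725.Local
open Groth.Agent.Lefpen.H725.Dict Groth.Agent.Lefpen.H521.CartierCoc Groth.Agent.Lefpen.H725.CoverData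

section gen

variable {X : Scheme.{u}} [IsIntegral X]

theorem nonunit_add {y : X} {u v : X.functionField} (hu : RegAt y u) (hv : RegAt y v)
    (h : UnitAt y (u + v)) : UnitAt y u ∨ UnitAt y v := by
  obtain ⟨U, hyU, hU, g, rfl⟩ := hu
  obtain ⟨V, hyV, hV, g', rfl⟩ := hv
  have hη : genericPoint X ∈ U ⊓ V := ⟨hU, hV⟩
  rw [← Groth.Agent.Lefpen.H61.T4Phi.ff_ores (inf_le_left : U ⊓ V ≤ U) hη,
    ← Groth.Agent.Lefpen.H61.T4Phi.ff_ores (inf_le_right : U ⊓ V ≤ V) hη] at h ⊢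
  have hy : y ∈ U ⊓ V := ⟨hyU, hyV⟩
  rw [← map_add, unitAt_ff_iff hη _ hy, X.mem_basicOpen _ y hy, map_add] at h
  rw [unitAt_ff_iff hη _ hy, unitAt_ff_iff hη _ hy, X.mem_basicOpen _ y hy, X.mem_basicOpen _ y hy]
  exact IsLocalRing.isUnit_or_isUnit_of_isUnit_add h

theorem unit_of_mul {y : X} {u v : X.functionField} (hu : RegAt y u) (hv : RegAt y v)
    (h : UnitAt y (u * v)) : UnitAt y v := by
  obtain ⟨U, hyU, hU, g, rfl⟩ := hu
  obtain ⟨V, hyV, hV, g', rfl⟩ := hv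
  have hη : genericPoint X ∈ U ⊓ V := ⟨hU, hV⟩
  rw [← Groth.Agent.Lefpen.H61.T4Phi.ff_ores (inf_le_left : U ⊓ V ≤ U) hη] at h
  rw [← Groth.Agent.Lefpen.H61.T4Phi.ff_ores (inf_le_right : U ⊓ V ≤ V) hη] at h ⊢
  have hy : y ∈ U ⊓ V := ⟨hyU, hyV⟩
  rw [← map_mul, unitAt_ff_iff hη _ hy, Scheme.basicOpen_mul] at h
  rw [unitAt_ff_iff hη _ hy]
  exact h.2

theorem unitAt_open {y : X} {u : X.functionField} (h : UnitAt y u) :
    ∃ U : X.Opens, y ∈ U ∧ ∀ z ∈ U, UnitAt z u := by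
  obtain ⟨U, hyU, hU, g, hg, rfl⟩ := h
  exact ⟨U, hyU, fun z hz => ⟨U, hz, hU, g, hg, rfl⟩⟩

end gen

variable {K : Type u} [Field K] {N d : ℕ} {a : Fin d → ℕ} {G : ∀ j : Fin d, Form N K (a j)} [IsIntegral (Y G)]
  {hdom : IsDomain (A (eqn G))} {hx : ∀ i, mk (eqn G) (X i) ≠ 0} {Q : Type u} [Field Q] [Algebra (A (eqn G)) Q]
  [IsFractionRing (A (eqn G)) Q] {C : Type} [Fintype C] [DecidableEq C] {p : ℕ} (Λ : Link (C := C) (p := p) G hdom hx Q)

/-- The prime ideal of a point. -/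
noncomputable def qIdeal {n : ℕ} {α : Fin n → Fin (N + 1)} {D : Fin n → ℕ} {P : Fin n → MvPolynomial (Fin (N + 1)) K}
    (hP : ∀ i, (P i).IsHomogeneous (D i)) {U : Cov Λ.S (Fin n)} (hU : ∀ i, U.h i = vv G Q (X (α i) * P i))
    (hdU : ∀ i, U.dh i = D i + 1) (i : Fin n) {y : Y G} (hy : y ∈ (Y G).basicOpen (fn G (α i) (P i))) :
    Ideal (Bh (U.h_mem i) (α i)) where
  carrier := {s | ∃ u : (Y G).functionField, ¬ UnitAt y u ∧ Λ.Φ u = s}
  zero_mem' := ⟨0, fun h => unitAt_ne_zero h rfl, map_zero _⟩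
  add_mem' := by
    rintro s t ⟨u, hu, hus⟩ ⟨v, hv, hvt⟩
    refine ⟨u + v, fun h => ?_, by rw [map_add, hus, hvt]; rfl⟩
    obtain ⟨u', hu', hus'⟩ := exists_of_Bh Λ hP hU hdU i hy s
    obtain ⟨v', hv', hvt'⟩ := exists_of_Bh Λ hP hU hdU i hy t
    have e1 : u = u' := Λ.Φ.injective (hus.trans hus'.symm)
    have e2 : v = v' := Λ.Φ.injective (hvt.trans hvt'.symm)
    subst e1 e2
    rcases nonunit_add hu' hv' h with h | h
    · exact hu h
    · exact hv h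
  smul_mem' := by
    rintro b s ⟨u, hu, hus⟩
    obtain ⟨v, hv, hvb⟩ := exists_of_Bh Λ hP hU hdU i hy b
    obtain ⟨u', hu', hus'⟩ := exists_of_Bh Λ hP hU hdU i hy s
    have e1 : u = u' := Λ.Φ.injective (hus.trans hus'.symm)
    subst e1
    exact ⟨v * u, fun h => hu (unit_of_mul hv hu' h), by rw [map_mul, hus, hvb]; rfl⟩

theorem qIdeal_ne_top {n : ℕ} {α : Fin n → Fin (N + 1)} {D : Fin n → ℕ} {P : Fin n → MvPolynomial (Fin (N + 1)) K}
    (hP : ∀ i, (P i).IsHomogeneous (D i)) {U : Cov Λ.S (Fin n)} (hU : ∀ i, U.h i = vv G Q (X (α i) * P i))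
    (hdU : ∀ i, U.dh i = D i + 1) (i : Fin n) {y : Y G} (hy : y ∈ (Y G).basicOpen (fn G (α i) (P i))) :
    qIdeal Λ hP hU hdU i hy ≠ ⊤ := by
  intro h
  have h1 : (1 : Bh (U.h_mem i) (α i)) ∈ qIdeal Λ hP hU hdU i hy := by rw [h]; trivial
  obtain ⟨u, hu, hu1⟩ := h1
  have h2 : u = 1 := Λ.Φ.injective (by rw [hu1, map_one]; rfl)
  subst h2
  exact hu (unitAt_one y)

/-- **`Pic = Z O(1) + p Pic`**, in terms of cocycles. -/
theorem exists_cocycle [CompactSpace (Y G)] [Fact p.Prime] [CharP K p] [IsSepClosed K] (c : Y G → (Y G).functionField)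
    (hc0 : ∀ x, c x ≠ 0) (hcloc : ∀ x, ∃ U : (Y G).Opens, x ∈ U ∧ ∀ y ∈ U, UnitAt y (c x / c y)) :
    ∃ (e : ℤ) (f : Q) (φ : Fin (N + 1) → (Y G).functionField), f ≠ 0 ∧ (∀ β, Λ.Φ (φ β) = f * (xx G Q β) ^ (-e)) ∧
      ∀ y : Y G, ∃ (β : Fin (N + 1)) (s b : (Y G).functionField), y ∈ ychart G β ∧ UnitAt y s ∧ φ β = c y * s * b ^ p := by
  choose W hxW hW using hcloc
  choose α D P hP hxP hPW using fun x => exists_basic G x (W x) (hxW x)
  obtain ⟨F, hF⟩ := (isCompact_univ (X := Y G)).elim_finite_subcover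
    (fun x => ((Y G).basicOpen (fn G (α x) (P x)) : Set (Y G)))
    (fun x => ((Y G).basicOpen (fn G (α x) (P x))).isOpen) (fun x _ => Set.mem_iUnion.mpr ⟨x, hxP x⟩)
  let n := F.card
  let pts : Fin n → Y G := fun i => (F.equivFin.symm i : Y G)
  have hcov : ∀ y : Y G, ∃ i : Fin n, y ∈ (Y G).basicOpen (fn G (α (pts i)) (P (pts i))) := by
    intro y
    obtain ⟨x, hxF, hyx⟩ := Set.mem_iUnion₂.mp (hF (Set.mem_univ y))
    refine ⟨F.equivFin ⟨x, hxF⟩, ?_⟩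
    have : pts (F.equivFin ⟨x, hxF⟩) = x := by simp [pts]
    rw [this]
    exact hyx
  obtain ⟨U, hU, hdU⟩ := exists_cov Λ (fun i => α (pts i)) (fun i => D (pts i)) (fun i => P (pts i))
    (fun i => hP (pts i)) hcov
  obtain ⟨A, hA⟩ := exists_udata Λ (fun i => α (pts i)) (fun i => D (pts i)) (fun i => P (pts i))
    (fun i => hP (pts i)) U hU hdU (fun i => c (pts i)) (fun i => hc0 _) (fun i j y hyi hyj => by
      have h1 := hW (pts i) y (hPW _ hyi)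
      have h2 := hW (pts j) y (hPW _ hyj)
      have h3 := unitAt_div h1 h2
      have h4 : c (pts i) / c y / (c (pts j) / c y) = c (pts i) / c (pts j) := by
        have := hc0 y
        have := hc0 (pts j)
        field_simp
      rwa [h4] at h3)
  obtain ⟨ρ, hρ, hρι⟩ := Groth.Agent.Lefpen.H576.Rho.exists_rho p Λ.T.ι Λ.T.F Λ.T.T (fun e x => by
    rw [Λ.T.der_ι]
    simp only [Λ.T.T_z, ite_mul, one_mul, zero_mul]
    simp) Λ.T.T_comm Λ.T.T_p
  obtain ⟨e, f, hf0, hfe, hmain⟩ := exists_main Λ.T A ρ hρ hρι (fun i => by rw [hA]; exact Λ.qh_phi _)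
  have hxxne : ∀ β, xx G Q β ≠ 0 := xx_ne_zero G hx Q
  have hφ : ∀ β, ∃ φ : (Y G).functionField, Λ.Φ φ = f * (xx G Q β) ^ (-e) := by
    intro β
    refine Λ.exists_of_qh (hfe.mul (m' := -e) ?_ (by ring))
    have h1 := qh_of_mem Λ.T (x_mem Λ.T β)
    rw [Λ.hz] at h1
    have h2 := qh_zpow h1 (-e)
    rwa [mul_one] at h2
  choose φ hφ using hφ
  refine ⟨e, f, φ, hf0, hφ, fun y => ?_⟩
  obtain ⟨i, hyi⟩ := hcov y
  have hUi : U.h i ≠ 0 := by
    have hyα : y ∈ ychart G (α (pts i)) := (Y G).basicOpen_le _ hyi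
    have h1 := (mem_basicOpen_mul_iff G hdom hx (α (pts i)) (α (pts i)) hyα (hP (pts i))).2 hyi
    have h2 := unitAt_ne_zero h1
    intro h0
    apply h2
    apply Λ.Φ.injective
    rw [Λ.phi_fn' _ ((isHomogeneous_X K (α (pts i))).mul (hP (pts i))), ← hU, h0, zero_div, map_zero]
  obtain ⟨s, hs, b, hb, hfs⟩ := hmain (α (pts i)) i hUi
    (qIdeal Λ (α := fun i => α (pts i)) (D := fun i => D (pts i)) (P := fun i => P (pts i)) (fun i => hP (pts i)) hU hdU i hyi)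
    (qIdeal_ne_top Λ _ hU hdU i hyi)
  obtain ⟨s', hs'reg, hs'⟩ := exists_of_Bh Λ (α := fun i => α (pts i)) (D := fun i => D (pts i))
    (P := fun i => P (pts i)) (fun i => hP (pts i)) hU hdU i hyi s
  have hs'u : UnitAt y s' := by
    by_contra hno
    exact hs ⟨s', hno, hs'⟩
  obtain ⟨b', hb'⟩ := Λ.exists_of_qh hb
  refine ⟨α (pts i), s' * (c (pts i) / c y), b', (Y G).basicOpen_le _ hyi,
    unitAt_mul hs'u (hW (pts i) y (hPW _ hyi)), ?_⟩
  apply Λ.Φ.injective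
  rw [hφ, hfs, map_mul, map_mul, map_mul, map_pow, map_div₀, hs', hb', hA, Λ.hz]
  have h1 : Λ.Φ (c y) ≠ 0 := (map_ne_zero Λ.Φ).2 (hc0 y)
  have h2 := hxxne (α (pts i))
  rw [zpow_neg]
  field_simp

end Groth.Agent.Lefpen.H725.Pdiv
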