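import Groth.Agent.Lefpen.H725.Pdiv
import Groth.Agent.Lefpen.H21.PicTwist
import Groth.Agent.Lefpen.H61.T4Int

/-!
# `L ⊗ M^p ≅ O(e)` on a generic complete intersection surface over a field with a `p`-basis of coefficients
-/

set_option autoImplicit false
set_option linter.unusedSectionVars false
universe u
open CategoryTheory CategoryTheory.Limits AlgebraicGeometry TopologicalSpace Opposite MvPolynomial
open LefPen

namespace Groth.Agent.Lefpen.H725.PicDiv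

open Groth.Agent.Lefpen.H718.Reg Groth.Agent.Lefpen.H718.ConeCM Groth.Agent.Lefpen.H718.Grade
open Groth.Agent.Lefpen.H718.Chart Groth.Agent.Lefpen.H725.CocDef Groth.Agent.Lefpen.H61.T4Phi
open Groth.Agent.Lefpen.H121.ChartLift Groth.Agent.Fdesc.LocGen
open Groth.Agent.Lefpen.H725.Dict Groth.Agent.Lefpen.H521.CartierCoc Groth.Agent.Lefpen.H725.CoverData
open Groth.Agent.Lefpen.H725.Pdiv

variable {K : Type u} [Field K] {N d : ℕ} {a : Fin d → ℕ} {G : ∀ j : Fin d, Form N K (a j)} [IsIntegral (Y G)]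
  {hdom : IsDomain (A (eqn G))} {hx : ∀ i, mk (eqn G) (X i) ≠ 0} {Q : Type u} [Field Q] [Algebra (A (eqn G)) Q]
  [IsFractionRing (A (eqn G)) Q] {C : Type} [Fintype C] [DecidableEq C] {p : ℕ} (Λ : Link (C := C) (p := p) G hdom hx Q)

include Λ in
/-- **`L ⊗ M^p ≅ O(e)`.** -/
theorem exists_tensor_iso [CompactSpace (Y G)] [hp : Fact p.Prime] [CharP K p] [IsSepClosed K]
    (hint : IsIntegrallyClosed (A (eqn G))) (L : (Y G).Modules) (hL : PicF.IsInvertible L) :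
    ∃ (M : (Y G).Modules) (e : ℤ), PicF.IsInvertible M ∧
      Nonempty (CohB1.tensorMod L (CohB1.tensorPow M p) ≅
        (Scheme.Modules.pullback (ciIdeal G).subschemeι).obj (Twist.twistProjSpace N K e)) := by
  obtain ⟨c, hc⟩ := exists_hasCoc hL
  have hc0 := hc.1
  obtain ⟨e, f, φ, hf0, hφ, hloc⟩ := exists_cocycle Λ c hc0 (hasCoc_loc hc)
  have hxxne : ∀ β, xx G Q β ≠ 0 := xx_ne_zero G hx Q
  have hφ0 : ∀ β, φ β ≠ 0 := fun β h0 => by
    have := hφ β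
    rw [h0, map_zero] at this
    exact mul_ne_zero hf0 (zpow_ne_zero _ (hxxne β)) this.symm
  choose β s b hyβ hs hb using hloc
  have hb0 : ∀ y, b y ≠ 0 := fun y h0 => by
    apply hφ0 (β y)
    rw [hb y, h0, zero_pow hp.out.ne_zero, mul_zero]
  have hs0 : ∀ y, s y ≠ 0 := fun y => unitAt_ne_zero (hs y)
  -- the change of chart
  have hφφ : ∀ β₁ β₂ (y : Y G), y ∈ ychart G β₁ → y ∈ ychart G β₂ → UnitAt y (φ β₁ / φ β₂) := by
    intro β₁ β₂ y h1 h2
    obtain ⟨u, hu, hΦu⟩ := unitAt_xx Λ β₁ β₂ h1 h2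
    have h3 : φ β₁ / φ β₂ = u ^ e := by
      apply Λ.Φ.injective
      rw [map_div₀, hφ, hφ, map_zpow₀, hΦu, div_zpow, zpow_neg, zpow_neg]
      have h4 := hxxne β₁
      have h5 := hxxne β₂
      field_simp
    rw [h3]
    exact unitAt_zpow hu e
  -- local constancy of `b`
  have hbloc : ∀ x, ∃ U : (Y G).Opens, x ∈ U ∧ ∀ y ∈ U, UnitAt y (b x / b y) := by
    intro x
    obtain ⟨U₁, hxU₁, hU₁⟩ := hasCoc_loc hc x
    obtain ⟨U₂, hxU₂, hU₂⟩ := unitAt_open (hs x)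
    refine ⟨U₁ ⊓ U₂ ⊓ ychart G (β x), ⟨⟨hxU₁, hxU₂⟩, hyβ x⟩, fun y hy => ?_⟩
    obtain ⟨⟨hy1, hy2⟩, hy3⟩ := hy
    refine Groth.Agent.Lefpen.H61.T4Int.unitAt_of_pow G hdom hx hint y (b x / b y) p hp.out.pos ?_
    have h1 := hφφ (β x) (β y) y hy3 (hyβ y)
    have h2 := hU₁ y hy1
    have h3 := hU₂ y hy2
    have h4 := unitAt_mul (unitAt_div h1 (unitAt_mul h2 h3)) (hs y)
    have h5 : φ (β x) / φ (β y) / (c x / c y * s x) * s y = (b x / b y) ^ p := by
      rw [hb x, hb y]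
      have e1 := hc0 x
      have e2 := hc0 y
      have e3 := hs0 x
      have e4 := hs0 y
      have e5 := pow_ne_zero p (hb0 y)
      rw [div_pow]
      field_simp
    rwa [h5] at h4
  obtain ⟨M, hM, hMb⟩ := exists_of_loc b hb0 hbloc
  obtain ⟨t, ht, htc⟩ := Groth.Agent.Lefpen.H61.T4Coc.hasCoc_twist G hdom hx Q Λ.Φ Λ.hΦ (-e)
  refine ⟨M, -e, hM, ?_⟩
  obtain ⟨γ, hγ⟩ : ∃ γ : (Y G).functionField, Λ.Φ γ = (f * xx G Q 0 ^ (-e))⁻¹ :=
    ⟨(φ 0)⁻¹, by rw [map_inv₀, hφ]⟩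
  refine hasCoc_iso (hasCoc_tensor hc (hasCoc_pow hMb p)) htc γ ?_ fun x => ?_
  · intro h0
    rw [h0, map_zero] at hγ
    exact inv_ne_zero (mul_ne_zero hf0 (zpow_ne_zero _ (hxxne 0))) hγ.symm
  · obtain ⟨α, hxα, htα⟩ := ht x
    obtain ⟨u, hu, hΦu⟩ := unitAt_xx Λ α (β x) hxα (hyβ x)
    have h1 : γ * (c x * b x ^ p) / t x = u ^ (-e) / s x := by
      have h2 : c x * b x ^ p = φ (β x) / s x := by
        rw [hb x]
        have := hs0 x
        field_simp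
      rw [h2]
      apply Λ.Φ.injective
      rw [map_div₀, map_mul, map_div₀, map_div₀, map_zpow₀, hγ, hφ, htα, hΦu]
      have h4 := hxxne 0
      have h5 := hxxne α
      have h6 := hxxne (β x)
      have h7 : Λ.Φ (s x) ≠ 0 := (map_ne_zero Λ.Φ).2 (hs0 x)
      simp only [div_zpow, zpow_neg]
      field_simp
    rw [h1]
    exact unitAt_div (unitAt_zpow hu _) (hs x)

open Groth.Agent.Grpsch.PicGrp Groth.Agent.Lefpen.H21.PicTwist in
include Λ in
/-- **`Pic = Z O(1) + p Pic`.** -/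
theorem pic_eq [CompactSpace (Y G)] [hp : Fact p.Prime] [CharP K p] [IsSepClosed K]
    (hint : IsIntegrallyClosed (A (eqn G))) (x : Pic (ciIdeal G).subscheme) :
    ∃ (y : Pic (ciIdeal G).subscheme) (e : ℤ), x = y ^ p * hyp (ciIdeal G).subschemeι ^ e := by
  obtain ⟨L, hL, rfl⟩ := exists_mk x
  obtain ⟨M, e, hM, hiso⟩ := exists_tensor_iso Λ hint L hL
  have hMp := isInvertible_tensorPow hM p
  have hLM : PicF.IsInvertible (CohB1.tensorMod L (CohB1.tensorPow M p)) := isInvertible_tensorMod hL hMp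
  have h1 : Groth.Agent.Grpsch.PicGrp.mk L hL * Groth.Agent.Grpsch.PicGrp.mk M hM ^ p =
      hyp (ciIdeal G).subschemeι ^ e := by
    rw [← mk_tensorPow, mk_mul_mk, mk_eq_hyp_zpow_iff]
    exact hiso
  refine ⟨(Groth.Agent.Grpsch.PicGrp.mk M hM)⁻¹, e, ?_⟩
  rw [← h1, inv_pow, mul_comm (Groth.Agent.Grpsch.PicGrp.mk L hL), inv_mul_cancel_left]

end Groth.Agent.Lefpen.H725.PicDiv
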